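import Cfsg.Agent.Omega.IId.SymWr.SylN.Two

/-!
# II.d, `SwBig`: `T_n = C_S(n)` is Sylow in `C_G(n)` (bb OMEGA #19775, helper666), V: LEMMA 3 and the theorem

`n = pr M x₀ (μ x₀)` an `S`-duad, `T = C_S(n)`, `t ∈ C_G(n)` normalising `T`:

* `SN.lem3` : **LEMMA 3** : `t` normalises `V`;
* `SN.sylT_max`, `SN.sylT` : **THEOREM SYL_n** : `C_S(n)` is a Sylow 2-subgroup of `C_G(n)`.
-/

set_option autoImplicit false
set_option linter.unusedSectionVars false

namespace Cfsg.Agent.Omega.IId.SymWr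

open Subgroup Pointwise Cfsg Cfsg.Agent.ZN Cfsg.Agent.Omega.MinPar Cfsg.Agent.Omega.FFThm
open Cfsg.Agent.Omega.Half (Amb amb_of_loc)
open Cfsg.Agent.Omega.Half.SymA (Pt E Mv pm)
open Cfsg.Agent.MinSimple.VModule (mem_zc zc_le zc_comm zc_sq zc_le_zl le_normalizer_o2 o2_isPGroup o2_le
  normalizer_le_normalizer_zc le_normalizer_zl)
open Triangle (KK KK_conj KK_le_o2 mem_cent mem_KK mem_zpowers_iff_of_sq cent_conj o2_cent_conj)
open Big (cz qz conj_mem norm_of conj_of_comm comm_of_conj le_o2_of Red.exists_normalizer)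
open Big.Syl (YY mem_YY YY_le exists_mem_zc exists_conj_le)

universe u

variable {G : Type u} [Group G] {P V : Subgroup G} {k m : ℕ}

/-- A maximal 2-subgroup is a Sylow 2-subgroup. -/
theorem not_dvd_of_maximal [Finite G] {T K : Subgroup G} (hT : IsPGroup 2 T) (hTK : T ≤ K)
    (hmax : ∀ R : Subgroup G, IsPGroup 2 R → R ≤ K → T ≤ R → R ≤ T) : ¬ 2 ∣ T.relIndex K := by
  have hp : Fact (Nat.Prime 2) := ⟨Nat.prime_two⟩
  obtain ⟨R, hR⟩ := (hT.comap_subtype (K := K)).exists_le_sylow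
  have h1 : (R : Subgroup K) = T.subgroupOf K := by
    refine le_antisymm (fun r hr => ?_) hR
    have h2 := hmax ((R : Subgroup K).map K.subtype) (R.isPGroup'.map _) (map_subtype_le _)
      (fun u hu => ⟨⟨u, hTK hu⟩, hR (mem_subgroupOf.2 hu), rfl⟩)
    exact mem_subgroupOf.2 (h2 ⟨r, hr, rfl⟩)
  rw [relIndex, ← h1]
  exact R.not_dvd_index

namespace SN

variable [Finite G] {S : Sylow 2 G} {M : SymK (S : Subgroup G) P V ⊥ k m} (h : SN S P V M)
  {μ ν : Equiv.Perm (Pt k m)} (F : Fours M μ ν) {x₀ : Pt k m} (hx : x₀.2 ≠ 0)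
include h F hx

section lem3

variable {t : G} (ht : t ∈ centralizer ({pr M x₀ (μ x₀)} : Set G))
  (htn : t ∈ normalizer (((S : Subgroup G) ⊓ centralizer ({pr M x₀ (μ x₀)} : Set G) : Subgroup G) : Set G))

include ht htn

/-- the vector `{0, x₀}` -/
theorem conj_e : t * pr M (x₀.1, 0) x₀ * t⁻¹ ∈ V := by
  classical
  have hpq : x₀.1 = (μ x₀).1 := (F.mfst x₀).symm
  have hne : x₀ ≠ μ x₀ := (F.mne x₀ hx).symm
  have htc : t * pr M x₀ (μ x₀) = pr M x₀ (μ x₀) * t := mem_cent.1 ht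
  obtain ⟨p, hp1, hps⟩ := exists_pt4 h.hm x₀.1 ({(x₀.1, 0), x₀, μ x₀} : Finset (Pt k m))
    (Finset.card_le_three.trans (by norm_num))
  simp only [Finset.mem_insert, Finset.mem_singleton, not_or] at hps
  obtain ⟨h1, h2, h3⟩ := hps
  have hp0 : p.2 ≠ 0 := fun h0 => h1 (Prod.ext hp1 h0)
  have hμp0 : (μ p).2 ≠ 0 := fun h0 => hp0 (F.mnz.1 h0)
  have hμp1 : μ p ≠ x₀ := fun h0 => h3 (by rw [← h0, F.msq])
  have hpp : p.1 = (μ p).1 := (F.mfst p).symm
  have hpne : p ≠ μ p := (F.mne p hp0).symm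
  obtain ⟨e, he⟩ : ∃ e, e = pr M (x₀.1, 0) x₀ := ⟨_, rfl⟩
  have heV : e ∈ V := by rw [he]; exact pr_mem M _ _
  have heE : E M e p = E M e (μ p) := by
    rw [he, E_zz M hp0, E_zz M hμp0, if_neg h2, if_neg hμp1]
  have hez := h.perp hpp hpne heV heE
  obtain ⟨c, hc, hc1, hc2, hcr⟩ := h.perm_t F hx ht htn hp0 h2 h3
  have hcc : c.1 = (μ c).1 := (F.mfst c).symm
  have hcne : c ≠ μ c := (F.mne c hc).symm
  rw [← he]
  have hz : t * e * t⁻¹ ∈ zc (qz (pr M c (μ c))) := by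
    have h4 := mem_zc.1 hez
    rw [← hcr]
    have h5 : qz (t * pr M p (μ p) * t⁻¹) = (qz (pr M p (μ p))).map (MulAut.conj t).toMonoidHom :=
      o2_cent_conj t (pr M p (μ p))
    rw [h5]
    refine mem_zc.2 ⟨⟨e, h4.1, rfl⟩, ?_, ?_⟩
    · rintro _ ⟨r, hr, rfl⟩
      show t * r * t⁻¹ * (t * e * t⁻¹) = t * e * t⁻¹ * (t * r * t⁻¹)
      calc t * r * t⁻¹ * (t * e * t⁻¹) = t * (r * e) * t⁻¹ := by group
        _ = t * e * t⁻¹ * (t * r * t⁻¹) := by rw [h4.2.1 r hr]; group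
    · rw [pow_two]
      calc t * e * t⁻¹ * (t * e * t⁻¹) = t * (e * e) * t⁻¹ := by group
        _ = 1 := by rw [h.Vsq heV]; group
  have hQz : ∀ q ∈ o2 P, q * (t * e * t⁻¹) * q⁻¹ = t * e * t⁻¹ ∨
      q * (t * e * t⁻¹) * q⁻¹ = pr M x₀ (μ x₀) * (t * e * t⁻¹) := by
    intro q hq
    obtain ⟨h4, h5⟩ := conj_T' ht htn (h.QS hq) (h.QcV hq (pr_mem M _ _))
    have h6 : (t⁻¹ * q * t) * e * (t⁻¹ * q * t)⁻¹ = pr M (x₀.1, 0) (pp M (t⁻¹ * q * t) x₀) := by
      rw [he, h.conj_zz h4]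
      have h7 := h.T_blk F hx h4 h5
      rw [h.pp_zero h4] at h7
      rw [h7]
    have h8 : q * (t * e * t⁻¹) * q⁻¹ = t * ((t⁻¹ * q * t) * e * (t⁻¹ * q * t)⁻¹) * t⁻¹ := by group
    rw [h8, h6]
    rcases h.T_pt F hx h4 h5 with ⟨h9, -⟩ | ⟨h9, -⟩
    · left
      rw [h9, ← he]
    · right
      have h10 : pr M (x₀.1, 0) (μ x₀) = pr M x₀ (μ x₀) * e := by
        rw [he, h.Vcomm (pr_mem M _ _) (pr_mem M _ _), pr_mul M (p := (x₀.1, 0)) (q := x₀) (r := μ x₀) rfl hpq]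
      rw [h9, h10]
      calc t * (pr M x₀ (μ x₀) * e) * t⁻¹ = (t * pr M x₀ (μ x₀) * t⁻¹) * (t * e * t⁻¹) := by group
        _ = pr M x₀ (μ x₀) * (t * e * t⁻¹) := by rw [conj_of_comm htc]
  refine h.zv ?_ fun q hq => ?_
  · calc t * e * t⁻¹ * (t * e * t⁻¹) = t * (e * e) * t⁻¹ := by group
      _ = 1 := by rw [h.Vsq heV]; group
  · rcases hQz q hq with h4 | h4
    · exact comm_of_conj h4
    · exfalso
      have h5 := h.one hcc hcne hz (pr_ne_one M hpq hne) hQz ⟨q, hq, h4⟩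
      have h6 := E_pr_left M hpq hne
      rw [h5, E_pr_of_ne M hcc hc1.symm (fun h0 => hc2 (by rw [h0, F.msq]))] at h6
      exact zero_ne_one h6

/-- **LEMMA 3.** -/
theorem lem3 {v : G} (hv : v ∈ V) : t * v * t⁻¹ ∈ V := by
  have hμx : (μ x₀).2 ≠ 0 := fun h0 => hx (F.mnz.1 h0)
  by_cases hE : E M v x₀ = E M v (μ x₀)
  · exact (h.lem2 F hx ht htn hv hE).1
  · obtain ⟨e, he⟩ : ∃ e, e = pr M (x₀.1, 0) x₀ := ⟨_, rfl⟩
    have heV : e ∈ V := by rw [he]; exact pr_mem M _ _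
    have h1 : E M (e * v) x₀ = E M (e * v) (μ x₀) := by
      classical
      rw [Half.SymA.E_mul M heV hv, Half.SymA.E_mul M heV hv, he, E_zz M hx, E_zz M hμx, if_pos rfl,
        if_neg (F.mne x₀ hx), zero_add]
      have : ∀ x y : ZMod 2, x ≠ y → 1 + x = y := by decide
      exact this _ _ hE
    have h2 := (h.lem2 F hx ht htn (mul_mem heV hv) h1).1
    have h3 := h.conj_e F hx ht htn
    rw [← he] at h3
    have h4 : t * v * t⁻¹ = (t * e * t⁻¹)⁻¹ * (t * (e * v) * t⁻¹) := by group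
    rw [h4]
    exact mul_mem (inv_mem h3) h2

theorem lem3_norm : t ∈ normalizer (V : Set G) := by
  rw [mem_normalizer_iff]
  intro x
  refine ⟨fun hx' => h.lem3 F hx ht htn hx', fun hx' => ?_⟩
  have h1 := h.lem3 F hx (inv_mem ht) (inv_mem htn) hx'
  have e : t⁻¹ * (t * x * t⁻¹) * t⁻¹⁻¹ = x := by group
  rwa [e] at h1

end lem3

/-- **THEOREM SYL_n**: `C_S(n)` is a maximal 2-subgroup of `C_G(n)`. -/
theorem sylT_max {R : Subgroup G} (hR : IsPGroup 2 R) (hRc : R ≤ centralizer ({pr M x₀ (μ x₀)} : Set G))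
    (hTR : (S : Subgroup G) ⊓ centralizer ({pr M x₀ (μ x₀)} : Set G) ≤ R) :
    R ≤ (S : Subgroup G) ⊓ centralizer ({pr M x₀ (μ x₀)} : Set G) := by
  classical
  by_contra hcon
  have hpq : x₀.1 = (μ x₀).1 := (F.mfst x₀).symm
  have hne : x₀ ≠ μ x₀ := (F.mne x₀ hx).symm
  obtain ⟨T, hT⟩ : ∃ T : Subgroup G, T = (S : Subgroup G) ⊓ centralizer ({pr M x₀ (μ x₀)} : Set G) := ⟨_, rfl⟩
  obtain ⟨t, htR, htT, htn⟩ := Big.Red.exists_normalizer (F := ⊥) bot_le hTR hcon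
    (fun r _ => by
      rw [mem_normalizer_iff]
      intro x
      simp only [mem_bot]
      constructor
      · rintro rfl
        simp
      · intro h0
        calc x = r⁻¹ * (r * x * r⁻¹) * r := by group
          _ = 1 := by rw [h0]; group)
    (fun y hy => by
      obtain ⟨n, hn⟩ := hR ⟨y, hy⟩
      exact ⟨n, by simpa using congrArg Subtype.val hn⟩)
  have ht : t ∈ centralizer ({pr M x₀ (μ x₀)} : Set G) := hRc htR
  have htV := h.lem3_norm F hx ht htn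
  rw [← hT] at htT hTR
  obtain ⟨X, hX⟩ : ∃ X : Subgroup G, X = T ⊔ zpowers t := ⟨_, rfl⟩
  have hTX : T ≤ X := by rw [hX]; exact le_sup_left
  have htX : t ∈ X := by
    rw [hX]
    exact le_sup_right (α := Subgroup G) (mem_zpowers t)
  have hXR : X ≤ R := by
    rw [hX]
    exact sup_le hTR ((zpowers_le).2 htR)
  have hSn : (S : Subgroup G) ≤ normalizer (V : Set G) := h.SP.trans h.PN
  have hTS : T ≤ (S : Subgroup G) := by rw [hT]; exact inf_le_left
  have hXn : X ≤ normalizer (V : Set G) := by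
    rw [hX]
    exact sup_le (hTS.trans hSn) ((zpowers_le).2 htV)
  obtain ⟨g, hg, hgX⟩ := exists_conj_le S hSn (hR.to_le hXR) hXn
  -- `g n g⁻¹` is an `S`-duad
  obtain ⟨c, hc, hcn⟩ : ∃ c : Pt k m, c.2 ≠ 0 ∧ g * pr M x₀ (μ x₀) * g⁻¹ = pr M c (μ c) := by
    obtain ⟨w, hw, hwp⟩ := Fours.exists_A h.toSit F (π := Equiv.swap x₀ (μ x₀)) (by
      intro q
      by_cases h1 : q = x₀
      · right; rw [h1, Equiv.swap_apply_left]
      by_cases h2 : q = μ x₀
      · right; rw [h2, Equiv.swap_apply_right, F.msq]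
      · left; exact Equiv.swap_apply_of_ne_of_ne h1 h2)
    have hwS : w ∈ (S : Subgroup G) := hw.1
    have hwP := h.SP hwS
    have hwn : w * pr M x₀ (μ x₀) = pr M x₀ (μ x₀) * w :=
      h.comm_pr hwP hpq (Or.inr ⟨by rw [hwp, Equiv.swap_apply_left], by rw [hwp, Equiv.swap_apply_right]⟩)
    have hwT : w ∈ T := by
      rw [hT]
      exact mem_inf.2 ⟨hwS, mem_cent.2 hwn⟩
    have hgS := hgX w (hTX hwT)
    have hgi : ∀ v ∈ V, g⁻¹ * v * g ∈ V := by
      intro v hv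
      have := (mem_normalizer_iff.1 (inv_mem hg) v).1 hv
      rwa [inv_inv] at this
    obtain ⟨c, hc, -, hcr⟩ := h.tv F (B := ∅) (by simp) (by simp) (by simp) (r := g * pr M x₀ (μ x₀) * g⁻¹) hgS (by
        intro v hv _
        by_cases h3 : E M (g⁻¹ * v * g) x₀ = E M (g⁻¹ * v * g) (μ x₀)
        · left
          have h4 := (h.act hwP hpq hne hwp (hgi v hv)).1 h3
          calc g * w * g⁻¹ * v * (g * w * g⁻¹)⁻¹ = g * (w * (g⁻¹ * v * g) * w⁻¹) * g⁻¹ := by group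
            _ = v := by rw [h4]; group
        · right
          have h4 := (h.act hwP hpq hne hwp (hgi v hv)).2 h3
          calc g * w * g⁻¹ * v * (g * w * g⁻¹)⁻¹ = g * (w * (g⁻¹ * v * g) * w⁻¹) * g⁻¹ := by group
            _ = g * pr M x₀ (μ x₀) * g⁻¹ * v := by rw [h4]; group) (by
        by_contra hcon2
        push Not at hcon2
        have h3 : pp M (g * w * g⁻¹) = 1 := by
          ext1 q
          by_cases hq : q.2 = 0
          · obtain ⟨c, hc, hcs⟩ := exists_pt4 h.hm q.1 ({(q.1, 0)} : Finset (Pt k m)) (by simp)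
            rw [Finset.mem_singleton] at hcs
            have hc0 : c.2 ≠ 0 := fun h0 => hcs (Prod.ext hc h0)
            have h4 := h.pp_zero hgS c
            rw [hcon2 c hc0 (Finset.notMem_empty c), hc] at h4
            have h5 : q = (q.1, 0) := Prod.ext rfl hq
            rw [h5, h4]
            rfl
          · exact hcon2 q hq (Finset.notMem_empty q)
        have h4 := (h.eq_one_iff (h.SP hgS)).1 h3
        have hE : E M (pr M (x₀.1, 0) x₀) x₀ = E M (pr M (x₀.1, 0) x₀) (μ x₀) := by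
          refine (h.act_iff hwP hpq hne hwp (pr_mem M _ _)).1 ?_
          have h5 := mem_centralizer_iff.1 h4 _ ((mem_normalizer_iff.1 hg _).1 (pr_mem M (x₀.1, 0) x₀))
          calc w * pr M (x₀.1, 0) x₀ = g⁻¹ * (g * w * g⁻¹ * (g * pr M (x₀.1, 0) x₀ * g⁻¹)) * g := by group
            _ = pr M (x₀.1, 0) x₀ * w := by rw [← h5]; group
        rw [E_zz M hx, E_zz M (fun h0 => hx (F.mnz.1 h0)), if_pos rfl, if_neg (F.mne x₀ hx)] at hE
        exact one_ne_zero hE)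
    exact ⟨c, hc, hcr⟩
  -- the orders
  obtain ⟨s, hs, hsc⟩ := h.trans hx hc
  have hsn : s * pr M x₀ (μ x₀) * s⁻¹ = pr M c (μ c) := by
    rw [h.conj_pr (h.SP hs) hpq, F.meqv s hs, hsc]
  have h1 : X.map (MulAut.conj g).toMonoidHom ≤ T.map (MulAut.conj s).toMonoidHom := by
    rintro _ ⟨x, hx', rfl⟩
    have hxm : g * x * g⁻¹ ∈ (S : Subgroup G) := hgX x hx'
    have hxv : x * pr M x₀ (μ x₀) = pr M x₀ (μ x₀) * x := mem_cent.1 (hRc (hXR hx'))
    refine ⟨s⁻¹ * (g * x * g⁻¹) * s, ?_, ?_⟩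
    · rw [hT]
      refine mem_inf.2 ⟨mul_mem (mul_mem (inv_mem hs) hxm) hs, mem_cent.2 ?_⟩
      apply comm_of_conj
      have h2 : g * x * g⁻¹ * pr M c (μ c) * (g * x * g⁻¹)⁻¹ = pr M c (μ c) := by
        rw [← hcn]
        calc g * x * g⁻¹ * (g * pr M x₀ (μ x₀) * g⁻¹) * (g * x * g⁻¹)⁻¹
            = g * (x * pr M x₀ (μ x₀) * x⁻¹) * g⁻¹ := by group
          _ = g * pr M x₀ (μ x₀) * g⁻¹ := by rw [conj_of_comm hxv]
      calc s⁻¹ * (g * x * g⁻¹) * s * pr M x₀ (μ x₀) * (s⁻¹ * (g * x * g⁻¹) * s)⁻¹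
          = s⁻¹ * (g * x * g⁻¹ * (s * pr M x₀ (μ x₀) * s⁻¹) * (g * x * g⁻¹)⁻¹) * s := by group
        _ = s⁻¹ * pr M c (μ c) * s := by rw [hsn, h2]
        _ = pr M x₀ (μ x₀) := by rw [← hsn]; group
    · show s * (s⁻¹ * (g * x * g⁻¹) * s) * s⁻¹ = g * x * g⁻¹
      group
  have h2 : Nat.card X ≤ Nat.card T := by
    have e1 : Nat.card (X.map (MulAut.conj g).toMonoidHom) = Nat.card X :=
      card_map_of_injective (MulAut.conj g).injective
    have e2 : Nat.card (T.map (MulAut.conj s).toMonoidHom) = Nat.card T :=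
      card_map_of_injective (MulAut.conj s).injective
    rw [← e1, ← e2]
    exact card_le_of_le h1
  have h3 : T = X := eq_of_le_of_card_ge hTX h2
  apply htT
  rw [h3]
  exact htX

/-- **THEOREM SYL_n**: `C_S(n)` is a Sylow 2-subgroup of `C_G(n)`. -/
theorem sylT : ¬ 2 ∣ ((S : Subgroup G) ⊓ centralizer ({pr M x₀ (μ x₀)} : Set G)).relIndex
    (centralizer ({pr M x₀ (μ x₀)} : Set G)) :=
  not_dvd_of_maximal (S.isPGroup'.to_le inf_le_left) inf_le_right fun _ hR hRc hTR => h.sylT_max F hx hR hRc hTR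

end SN

end Cfsg.Agent.Omega.IId.SymWr
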