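import Cfsg.Agent.Omega.IId.SymWr.SylN.Base

/-!
# II.d, `SwBig`: `T_n = C_S(n)` is Sylow in `C_G(n)` (bb OMEGA #19775, helper666), II: `Ω₁Z(Q) = V` and LEMMA 1

* `SN.zv` : **(ZV)** : `Ω₁Z(Q) = V`;
* `SN.one` : **LEMMA 1** : `y ∈ Ω₁Z(Q_n)`, `[y, Q] = ⟨a⟩` of order 2 ⇒ `a = n`.
-/

set_option autoImplicit false
set_option linter.unusedSectionVars false

namespace Cfsg.Agent.Omega.IId.SymWr

open Subgroup Pointwise Cfsg Cfsg.Agent.ZN Cfsg.Agent.Omega.MinPar Cfsg.Agent.Omega.FFThm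
open Cfsg.Agent.Omega.Half (Amb amb_of_loc)
open Cfsg.Agent.Omega.Half.SymA (Pt E Mv pm)
open Cfsg.Agent.MinSimple.VModule (mem_zc zc_le zc_comm zc_sq zc_le_zl le_normalizer_o2 o2_isPGroup o2_le
  normalizer_le_normalizer_zc le_normalizer_zl)
open Triangle (KK KK_conj KK_le_o2 mem_cent mem_KK mem_zpowers_iff_of_sq cent_conj o2_cent_conj)
open Big (cz qz conj_mem norm_of conj_of_comm comm_of_conj le_o2_of)
open Big.Syl (YY mem_YY YY_le exists_mem_zc)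

universe u

variable {G : Type u} [Group G] {P V : Subgroup G} {k m : ℕ}

/-- `x` if `c = 1`, `1` if `c = 0` -/
def sc (c : ZMod 2) (x : G) : G := if c = 1 then x else 1

theorem sc_one (x : G) : sc 1 x = x := if_pos rfl

theorem sc_zero (x : G) : sc 0 x = 1 := if_neg (by decide)

theorem sc_mem {A : Subgroup G} {c : ZMod 2} {x : G} (hx : x ∈ A) : sc c x ∈ A := by
  unfold sc
  split_ifs
  · exact hx
  · exact one_mem _

theorem sc_conj (w : G) (c : ZMod 2) (x : G) : w * sc c x * w⁻¹ = sc c (w * x * w⁻¹) := by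
  unfold sc
  split_ifs
  · rfl
  · group

theorem E_sc {S : Subgroup G} (M : SymK S P V ⊥ k m) (c : ZMod 2) (x : G) (r : Pt k m) :
    E M (sc c x) r = c * E M x r := by
  rcases Half.SymA.zmod2 c with rfl | rfl
  · rw [sc_zero, Half.SymA.E_one, zero_mul]
  · rw [sc_one, one_mul]

namespace SN

variable [Finite G] {S : Sylow 2 G} {M : SymK (S : Subgroup G) P V ⊥ k m} (h : SN S P V M)
include h

open scoped Classical in
/-- `1` if `K_{p q}` moves `z` -/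
noncomputable def aa' (M : SymK (S : Subgroup G) P V ⊥ k m) (z : G) (p q : Pt k m) : ZMod 2 :=
  if ∃ w ∈ KK (pr M p q), pp M w = Equiv.swap p q ∧ w * z * w⁻¹ ≠ z then 1 else 0

omit h in
theorem aa'_symm (z : G) {p q : Pt k m} (hpq : p.1 = q.1) : aa' M z p q = aa' M z q p := by
  unfold aa'
  rw [pr_comm M hpq, Equiv.swap_comm]

theorem aa'_spec {z : G} (hzz : z * z = 1) (hz : ∀ x ∈ o2 P, x * z = z * x) {p q : Pt k m} (hpq : p.1 = q.1)
    (hne : p ≠ q) {w : G} (hw : w ∈ KK (pr M p q)) (hwp : pp M w = Equiv.swap p q) :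
    w * z * w⁻¹ = sc (aa' M z p q) (pr M p q) * z := by
  have hact := fun w (hw : w ∈ KK (pr M p q)) => h.KK_act hw (h.zz_mem_qz hpq hne hzz hz)
  unfold aa'
  by_cases h1 : ∃ w ∈ KK (pr M p q), pp M w = Equiv.swap p q ∧ w * z * w⁻¹ ≠ z
  · rw [if_pos h1, sc_one]
    obtain ⟨w', hw', hwp', hmv⟩ := h1
    have h2 := (hact w' hw').resolve_left hmv
    have hP := h.QP p q hpq hne (h.KK_le hpq hne hw)
    have hP' := h.QP p q hpq hne (h.KK_le hpq hne hw')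
    have h3 : w'⁻¹ * w ∈ o2 P := by
      refine h.mem_Q_of hpq hne (mul_mem (inv_mem (h.KK_le hpq hne hw')) (h.KK_le hpq hne hw)) ?_
      rw [h.mul (inv_mem hP') hP, h.inv hP', hwp, hwp', inv_mul_cancel]
    calc w * z * w⁻¹ = w' * ((w'⁻¹ * w) * z * (w'⁻¹ * w)⁻¹) * w'⁻¹ := by group
      _ = pr M p q * z := by rw [conj_of_comm (hz _ h3), h2]
  · rw [if_neg h1, sc_zero, one_mul]
    by_contra h2
    exact h1 ⟨w, hw, hwp, h2⟩

/-- the cocycle rule -/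
theorem aa'_add {z : G} (hzz : z * z = 1) (hz : ∀ x ∈ o2 P, x * z = z * x) {p q r : Pt k m} (hpq : p.1 = q.1)
    (hqr : q.1 = r.1) (h1 : p ≠ q) (h2 : q ≠ r) (h3 : p ≠ r) :
    aa' M z p r = aa' M z p q + aa' M z q r := by
  obtain ⟨w₁, hw₁, hp₁⟩ := h.par p q hpq h1
  obtain ⟨w₂, hw₂, hp₂⟩ := h.par q r hqr h2
  have hP₁ := h.QP p q hpq h1 (h.KK_le hpq h1 hw₁)
  have hP₂ := h.QP q r hqr h2 (h.KK_le hqr h2 hw₂)
  have e₁ := h.aa'_spec hzz hz hpq h1 hw₁ hp₁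
  have e₂ := h.aa'_spec hzz hz hqr h2 hw₂ hp₂
  set a₁ := aa' M z p q with ha₁
  set a₂ := aa' M z q r with ha₂
  have hpr := hpq.trans hqr
  have c1 : w₂ * pr M p q * w₂⁻¹ = pr M p r := by
    rw [h.conj_pr hP₂ hpq, hp₂, Equiv.swap_apply_of_ne_of_ne h1 h3, Equiv.swap_apply_left]
  have c2 : w₁ * pr M q r * w₁⁻¹ = pr M p r := by
    rw [h.conj_pr hP₁ hqr, hp₁, Equiv.swap_apply_right, Equiv.swap_apply_of_ne_of_ne h3.symm h2.symm]
  have c3 : w₂ * pr M p r * w₂⁻¹ = pr M p q := by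
    rw [h.conj_pr hP₂ hpr, hp₂, Equiv.swap_apply_of_ne_of_ne h1 h3, Equiv.swap_apply_right]
  have c4 : w₂ * pr M q r * w₂⁻¹ = pr M q r := conj_of_comm (mem_KK.1 hw₂).1
  have c5 : w₂⁻¹ * z * w₂ = sc a₂ (pr M q r) * z := by
    have h4 : w₂ * (sc a₂ (pr M q r) * z) * w₂⁻¹ = z := by
      have h5 : sc a₂ (pr M q r) * sc a₂ (pr M q r) = 1 := h.Vsq (sc_mem (pr_mem M q r))
      calc w₂ * (sc a₂ (pr M q r) * z) * w₂⁻¹ = (w₂ * sc a₂ (pr M q r) * w₂⁻¹) * (w₂ * z * w₂⁻¹) := by group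
        _ = (sc a₂ (pr M q r) * sc a₂ (pr M q r)) * z := by rw [sc_conj, c4, e₂]; group
        _ = z := by rw [h5, one_mul]
    calc w₂⁻¹ * z * w₂ = w₂⁻¹ * (w₂ * (sc a₂ (pr M q r) * z) * w₂⁻¹) * w₂ := by rw [h4]
      _ = sc a₂ (pr M q r) * z := by group
  -- the conjugate
  have hw₃ : w₂ * w₁ * w₂⁻¹ ∈ KK (pr M p r) := by rw [← c1]; exact KK_conj hw₁
  have hp₃ : pp M (w₂ * w₁ * w₂⁻¹) = Equiv.swap p r := by
    rw [h.conj hP₂ hP₁, hp₁, hp₂]
    ext1 x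
    have e0 : (Equiv.swap q r)⁻¹ = Equiv.swap q r := Equiv.swap_inv q r
    rw [e0, Equiv.Perm.mul_apply, Equiv.Perm.mul_apply]
    have hv : ∀ x : Pt k m, x = p ∨ x = q ∨ x = r ∨ (x ≠ p ∧ x ≠ q ∧ x ≠ r) := fun x => by tauto
    rcases hv x with rfl | rfl | rfl | ⟨n1, n2, n3⟩
    · rw [Equiv.swap_apply_of_ne_of_ne h1 h3, Equiv.swap_apply_left, Equiv.swap_apply_left, Equiv.swap_apply_left]
    · rw [Equiv.swap_apply_left, Equiv.swap_apply_of_ne_of_ne h3.symm h2.symm, Equiv.swap_apply_right,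
        Equiv.swap_apply_of_ne_of_ne h1.symm h2]
    · rw [Equiv.swap_apply_right, Equiv.swap_apply_right, Equiv.swap_apply_of_ne_of_ne h1 h3,
        Equiv.swap_apply_right]
    · rw [Equiv.swap_apply_of_ne_of_ne n2 n3, Equiv.swap_apply_of_ne_of_ne n1 n2,
        Equiv.swap_apply_of_ne_of_ne n2 n3, Equiv.swap_apply_of_ne_of_ne n1 n3]
  have e₃ := h.aa'_spec hzz hz hpr h3 hw₃ hp₃
  set a₃ := aa' M z p r with ha₃
  have e₄ : w₂ * w₁ * w₂⁻¹ * z * (w₂ * w₁ * w₂⁻¹)⁻¹ =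
      sc a₂ (pr M p q) * sc a₁ (pr M p r) * sc a₂ (pr M q r) * z := by
    calc w₂ * w₁ * w₂⁻¹ * z * (w₂ * w₁ * w₂⁻¹)⁻¹ = w₂ * (w₁ * (w₂⁻¹ * z * w₂) * w₁⁻¹) * w₂⁻¹ := by group
      _ = w₂ * ((w₁ * sc a₂ (pr M q r) * w₁⁻¹) * (w₁ * z * w₁⁻¹)) * w₂⁻¹ := by rw [c5]; group
      _ = (w₂ * sc a₂ (pr M p r) * w₂⁻¹) * (w₂ * sc a₁ (pr M p q) * w₂⁻¹) * (w₂ * z * w₂⁻¹) := by
          rw [sc_conj, c2, e₁]; group
      _ = sc a₂ (pr M p q) * sc a₁ (pr M p r) * sc a₂ (pr M q r) * z := by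
          rw [sc_conj, sc_conj, c3, c1, e₂]; group
  rw [e₃] at e₄
  have e₅ := mul_right_cancel e₄
  have e₆ := congrArg (fun v => E M v p) e₅
  have m1 : sc a₂ (pr M p q) ∈ V := sc_mem (pr_mem M p q)
  have m2 : sc a₁ (pr M p r) ∈ V := sc_mem (pr_mem M p r)
  have m3 : sc a₂ (pr M q r) ∈ V := sc_mem (pr_mem M q r)
  rw [Half.SymA.E_mul M (mul_mem m1 m2) m3, Half.SymA.E_mul M m1 m2, E_sc, E_sc, E_sc, E_sc, E_pr_left M hpr h3,
    E_pr_left M hpq h1, E_pr_of_ne M hqr h1 h3, mul_one, mul_one, mul_one, mul_zero, add_zero] at e₆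
  rw [e₆, add_comm]

/-- an involution `z` centralising `Q` is centralised by all `K_p` modulo `V` -/
theorem exists_mod {z : G} (hzz : z * z = 1) (hz : ∀ x ∈ o2 P, x * z = z * x) :
    ∃ v ∈ V, ∀ p q : Pt k m, p.1 = q.1 → p ≠ q → ∀ g ∈ KK (pr M p q), g * (v * z) = v * z * g := by
  classical
  obtain ⟨g, hg⟩ : ∃ g : Pt k m → ZMod 2, ∀ p, g p = if p.2 = 0 then 0 else aa' M z p (p.1, 0) := ⟨_, fun _ => rfl⟩
  obtain ⟨c, hc⟩ : ∃ c : Fin k → ZMod 2, ∀ l, c l = ∑ x, g (l, x) := ⟨_, fun _ => rfl⟩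
  obtain ⟨v, hv, hvE⟩ := Half.SymA.exists_E M (fun p => g p + c p.1) (by
    intro i
    show ∑ x, (g (i, x) + c i) = 0
    rw [Finset.sum_add_distrib, Finset.sum_const, Finset.card_univ, Fintype.card_fin, nsmul_eq_mul,
      Nat.cast_add, Nat.cast_one]
    have h6 : ((2 ^ m : ℕ) : ZMod 2) = 0 := by
      rw [ZMod.natCast_eq_zero_iff]
      exact dvd_pow_self 2 (by have := h.hm; omega)
    have h7 : ∀ a : ZMod 2, a + a = 0 := by decide
    rw [h6, zero_add, one_mul, ← hc i]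
    exact h7 _)
  have key : ∀ p q : Pt k m, p.1 = q.1 → p ≠ q → E M v p + E M v q = aa' M z p q := by
    intro p q hpq hne
    rw [hvE, hvE]
    show g p + c p.1 + (g q + c q.1) = _
    have h7 : ∀ a b d : ZMod 2, a + b + (d + b) = a + d := by decide
    rw [hpq, h7, hg, hg]
    by_cases hp : p.2 = 0
    · have hp' : p = (q.1, 0) := Prod.ext hpq hp
      have hq : q.2 ≠ 0 := fun hq => hne (Prod.ext hpq (hp.trans hq.symm))
      rw [if_pos hp, if_neg hq, zero_add, ← hp', aa'_symm z hpq]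
    · by_cases hq : q.2 = 0
      · have hq' : q = (p.1, 0) := Prod.ext hpq.symm hq
        rw [if_neg hp, if_pos hq, add_zero, ← hq']
      · rw [if_neg hp, if_neg hq, hpq, h.aa'_add hzz hz (p := p) (q := (q.1, 0)) (r := q) hpq rfl
          (fun h0 => hp (congrArg Prod.snd h0)) (fun h0 => hq (congrArg Prod.snd h0).symm) hne,
          aa'_symm z (p := (q.1, 0)) (q := q) rfl]
  refine ⟨v, hv, fun p q hpq hne x hx => ?_⟩
  have hxq := h.KK_le hpq hne hx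
  have hxP := h.QP p q hpq hne hxq
  rcases h.Qpp p q hpq hne x hxq with h1 | h1
  · have hxQ := h.mem_Q_of hpq hne hxq h1
    calc x * (v * z) = (x * v) * z := by group
      _ = v * (x * z) := by rw [h.QcV hxQ hv]; group
      _ = v * z * x := by rw [hz x hxQ]; group
  · apply comm_of_conj
    have h2 := h.aa'_spec hzz hz hpq hne hx h1
    have h3 : x * v * x⁻¹ = sc (aa' M z p q) (pr M p q) * v := by
      rw [← key p q hpq hne]
      by_cases hE : E M v p = E M v q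
      · have h7 : ∀ a : ZMod 2, a + a = 0 := by decide
        rw [hE, h7, sc_zero, one_mul]
        exact (h.act hxP hpq hne h1 hv).1 hE
      · have h7 : ∀ a b : ZMod 2, a ≠ b → a + b = 1 := by decide
        rw [h7 _ _ hE, sc_one]
        exact (h.act hxP hpq hne h1 hv).2 hE
    have hs : sc (aa' M z p q) (pr M p q) ∈ V := sc_mem (pr_mem M p q)
    have h4 := h.Vsq hs
    have h5 := h.Vcomm hs hv
    calc x * (v * z) * x⁻¹ = (x * v * x⁻¹) * (x * z * x⁻¹) := by group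
      _ = sc (aa' M z p q) (pr M p q) * v * (sc (aa' M z p q) (pr M p q) * z) := by rw [h3, h2]
      _ = v * (sc (aa' M z p q) (pr M p q) * sc (aa' M z p q) (pr M p q)) * z := by rw [h5]; group
      _ = v * z := by rw [h4, mul_one]

/-- an element of `V` centralised by all `K_p` is trivial -/
theorem tot {v : G} (hv : v ∈ V) (hK : ∀ p q : Pt k m, p.1 = q.1 → p ≠ q → ∀ g ∈ KK (pr M p q), g * v = v * g) :
    v = 1 := by
  refine eq_one_of_const M h.hm1 hv fun p q hpq hne => ?_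
  obtain ⟨w, hw, hwp⟩ := h.par p q hpq hne
  exact (h.act_iff (h.QP p q hpq hne (h.KK_le hpq hne hw)) hpq hne hwp hv).1 (hK p q hpq hne w hw)

/-- **(ZV)**: `Ω₁Z(Q) = V`. -/
theorem zv {z : G} (hzz : z * z = 1) (hz : ∀ x ∈ o2 P, x * z = z * x) : z ∈ V := by
  obtain ⟨e, he, h1⟩ := h.exists_mod hzz hz
  obtain ⟨Y, hY⟩ : ∃ Y : Subgroup G,
      Y = centralizer ((o2 P : Set G) ∪ {g | ∃ p q : Pt k m, p.1 = q.1 ∧ p ≠ q ∧ g ∈ KK (pr M p q)}) := ⟨_, rfl⟩
  have hYQ : Y ≤ o2 P := by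
    rw [hY]
    exact (centralizer_le Set.subset_union_left).trans h.cQ
  have hSY : (S : Subgroup G) ≤ normalizer (Y : Set G) := by
    apply norm_of
    intro s hs y hy
    rw [hY] at hy ⊢
    refine mem_centralizer_iff.2 fun t ht => ?_
    have hsP := h.SP hs
    have h2 : s⁻¹ * t * s ∈ ((o2 P : Set G) ∪ {g | ∃ p q : Pt k m, p.1 = q.1 ∧ p ≠ q ∧ g ∈ KK (pr M p q)}) := by
      rcases ht with ht | ⟨p, q, hpq, hne, ht⟩
      · left
        exact h.nQ' hsP ht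
      · right
        have h3 := KK_conj (h := s⁻¹) ht
        rw [h.conj_pr (inv_mem hsP) hpq, inv_inv] at h3
        exact ⟨_, _, h.fst (inv_mem hsP) hpq, fun h0 => hne ((pp M s⁻¹).injective h0), h3⟩
    have h3 := mem_centralizer_iff.1 hy _ h2
    calc t * (s * y * s⁻¹) = s * ((s⁻¹ * t * s) * y) * s⁻¹ := by group
      _ = s * y * s⁻¹ * t := by rw [h3]; group
  have hYb : Y = ⊥ := by
    by_contra hYb
    obtain ⟨c, hc, hcS, hc1⟩ := exists_mem_zc S.isPGroup' (hYQ.trans h.QS) hSY hYb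
    apply hc1
    rw [hY] at hc
    exact h.tot (h.zV hcS) fun p q hpq hne g hg =>
      mem_centralizer_iff.1 hc g (Or.inr ⟨p, q, hpq, hne, hg⟩)
  have hez : e * z ∈ Y := by
    rw [hY]
    refine mem_centralizer_iff.2 fun t ht => ?_
    rcases ht with ht | ⟨p, q, hpq, hne, ht⟩
    · calc t * (e * z) = (t * e) * z := by group
        _ = e * (t * z) := by rw [h.QcV ht he]; group
        _ = e * z * t := by rw [hz t ht]; group
    · exact h1 p q hpq hne t ht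
  rw [hYb, mem_bot] at hez
  have h2 : z = e⁻¹ := eq_inv_of_mul_eq_one_right hez
  rw [h2]
  exact inv_mem he

end SN

end Cfsg.Agent.Omega.IId.SymWr
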