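import Cfsg.Agent.Omega.IId.SymWr.SylN.ZV

/-!
# II.d, `SwBig`: `T_n = C_S(n)` is Sylow in `C_G(n)` (bb OMEGA #19775, helper666), III: LEMMA 1

* `SN.perp` : `n^⊥ ≤ Ω₁Z(Q_n)`; `SN.zc_le_Q`, `SN.zc_conj`;
* `SN.one` : **LEMMA 1** : `y ∈ Ω₁Z(Q_n)`, `[y, Q] = ⟨a⟩` of order 2 ⇒ `a = n`.
-/

set_option autoImplicit false
set_option linter.unusedSectionVars false

namespace Cfsg.Agent.Omega.IId.SymWr

open Subgroup Pointwise Cfsg Cfsg.Agent.ZN Cfsg.Agent.Omega.MinPar Cfsg.Agent.Omega.FFThm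
open Cfsg.Agent.Omega.Half (Amb amb_of_loc)
open Cfsg.Agent.Omega.Half.SymA (Pt E Mv pm)
open Cfsg.Agent.MinSimple.VModule (mem_zc zc_le zc_comm zc_sq zc_le_zl le_normalizer_o2 o2_isPGroup o2_le
  normalizer_le_normalizer_zc le_normalizer_zl)
open Triangle (KK KK_conj KK_le_o2 mem_cent mem_KK mem_zpowers_iff_of_sq cent_conj o2_cent_conj)
open Big (cz qz conj_mem norm_of conj_of_comm comm_of_conj le_o2_of)
open Big.Syl (YY mem_YY YY_le exists_mem_zc)

universe u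

variable {G : Type u} [Group G] {P V : Subgroup G} {k m : ℕ}

/-- an element of `C_G(p)` normalises `Ω₁Z(Q_p)` -/
theorem zc_conj' {p c x : G} (hc : c * p = p * c) (hx : x ∈ zc (qz p)) : c * x * c⁻¹ ∈ zc (qz p) :=
  conj_mem ((MinSimple.VModule.le_normalizer_o2 (cz p)).trans (MinSimple.VModule.normalizer_le_normalizer_zc _))
    (mem_cent.2 hc) hx

namespace SN

variable [Finite G] {S : Sylow 2 G} {M : SymK (S : Subgroup G) P V ⊥ k m} (h : SN S P V M)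
include h

/-- `n^⊥ ≤ Ω₁Z(Q_n)` -/
theorem perp {p q : Pt k m} (hpq : p.1 = q.1) (hne : p ≠ q) {v : G} (hv : v ∈ V) (hE : E M v p = E M v q) :
    v ∈ zc (qz (pr M p q)) := by
  refine mem_zc.2 ⟨h.VQ p q hpq hne hv, fun x hx => ?_, by rw [pow_two]; exact h.Vsq hv⟩
  have hxP := h.QP p q hpq hne hx
  rcases h.Qpp p q hpq hne x hx with h1 | h1
  · exact h.QcV (h.mem_Q_of hpq hne hx h1) hv
  · exact (h.act_iff hxP hpq hne h1 hv).2 hE

/-- the elements of `Ω₁Z(Q_n)` commute with `V` -/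
theorem zcV {p q : Pt k m} (hpq : p.1 = q.1) (hne : p ≠ q) {y v : G} (hy : y ∈ zc (qz (pr M p q))) (hv : v ∈ V) :
    y * v = v * y := ((mem_zc.1 hy).2.1 v (h.VQ p q hpq hne hv)).symm

theorem zc_le_Q {p q : Pt k m} (hpq : p.1 = q.1) (hne : p ≠ q) : zc (qz (pr M p q)) ≤ o2 P := by
  refine h.NQ ((o2_isPGroup _).to_le (zc_le _)) (fun y hy => mem_centralizer_iff.2 fun v hv =>
    (h.zcV hpq hne hy hv).symm) ?_
  apply norm_of
  intro c hc y hy
  exact zc_conj' (mem_centralizer_iff.1 hc _ (pr_mem M p q)).symm hy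

/-- an element of `V ∩ Ω₁Z(Q_n)` is orthogonal to `n` -/
theorem E_of_zc {p q : Pt k m} (hpq : p.1 = q.1) (hne : p ≠ q) {v : G} (hv : v ∈ V) (hz : v ∈ zc (qz (pr M p q))) :
    E M v p = E M v q := by
  obtain ⟨w, hw, hwp⟩ := h.par p q hpq hne
  have hwq := h.KK_le hpq hne hw
  exact (h.act_iff (h.QP p q hpq hne hwq) hpq hne hwp hv).1 ((mem_zc.1 hz).2.1 w hwq)

/-- `Ω₁Z(Q_n) ∩ C(Ω₁Z(Q_r)) ≤ Q_r` if `n ∈ Ω₁Z(Q_r)` -/
theorem mem_qz_of {p q a b : Pt k m} (hpq : p.1 = q.1) (hne : p ≠ q) (hab : a.1 = b.1) (hnab : a ≠ b)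
    (hE : E M (pr M p q) a = E M (pr M p q) b) {y : G} (hy : y ∈ zc (qz (pr M p q)))
    (hyc : ∀ c ∈ zc (qz (pr M a b)), y * c = c * y) : y ∈ qz (pr M a b) := by
  obtain ⟨N, hN⟩ : ∃ N : Subgroup G, N = cz (pr M a b) ⊓ centralizer (zc (qz (pr M a b)) : Set G) := ⟨_, rfl⟩
  obtain ⟨A, hA⟩ : ∃ A : Subgroup G, A = zc (qz (pr M p q)) ⊓ centralizer (zc (qz (pr M a b)) : Set G) := ⟨_, rfl⟩
  have hn : pr M p q ∈ zc (qz (pr M a b)) := h.perp hab hnab (pr_mem M p q) hE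
  have hAN : A ≤ N := by
    rw [hA, hN]
    exact fun x hx => ⟨mem_cent.2 (h.zcV hpq hne hx.1 (pr_mem M a b)), hx.2⟩
  have hNN : N ≤ normalizer (A : Set G) := by
    rw [hN, hA]
    apply norm_of
    rintro c ⟨hc1, hc2⟩ x ⟨hx1, hx2⟩
    refine ⟨zc_conj' (mem_centralizer_iff.1 hc2 _ hn).symm hx1, ?_⟩
    exact (centralizer (zc (qz (pr M a b)) : Set G)).mul_mem (mul_mem hc2 hx2) (inv_mem hc2)
  have hNle : N ≤ cz (pr M a b) := by rw [hN]; exact inf_le_left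
  have hNn : cz (pr M a b) ≤ normalizer (N : Set G) := by
    rw [hN]
    apply norm_of
    rintro c hc x ⟨hx1, hx2⟩
    refine ⟨(cz _).mul_mem ((cz _).mul_mem hc hx1) ((cz _).inv_mem hc), mem_centralizer_iff.2 fun u hu => ?_⟩
    have hu' : c⁻¹ * u * c⁻¹⁻¹ ∈ zc (qz (pr M a b)) := zc_conj' (mem_cent.1 (inv_mem hc)) hu
    rw [inv_inv] at hu'
    have h2 := mem_centralizer_iff.1 hx2 _ hu'
    calc u * (c * x * c⁻¹) = c * ((c⁻¹ * u * c) * x) * c⁻¹ := by group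
      _ = c * x * c⁻¹ * u := by rw [h2]; group
  have hA2 : IsPGroup 2 A := by
    rw [hA]
    exact (o2_isPGroup _).to_le (inf_le_left.trans (zc_le _))
  have key : A ≤ qz (pr M a b) := le_o2_of hA2 hAN hNN hNle hNn
  apply key
  rw [hA]
  exact ⟨hy, mem_centralizer_iff.2 fun c hc => (hyc c hc).symm⟩

/-- **LEMMA 1.** -/
theorem one {p q : Pt k m} (hpq : p.1 = q.1) (hne : p ≠ q) {y a : G} (hy : y ∈ zc (qz (pr M p q))) (ha1 : a ≠ 1)
    (hQ : ∀ x ∈ o2 P, x * y * x⁻¹ = y ∨ x * y * x⁻¹ = a * y) (hex : ∃ x ∈ o2 P, x * y * x⁻¹ = a * y) :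
    a = pr M p q := by
  classical
  obtain ⟨x₀, hx₀, hx₀y⟩ := hex
  have haU : a ∈ zc (qz (pr M p q)) := by
    have h1 : a = (x₀ * y * x₀⁻¹) * y⁻¹ := by rw [hx₀y]; group
    rw [h1]
    exact mul_mem (zc_conj' (h.QcV hx₀ (pr_mem M p q)) hy) (inv_mem hy)
  have haa : a * a = 1 := by
    have := (mem_zc.1 haU).2.2
    rwa [pow_two] at this
  have hai : a⁻¹ = a := inv_eq_of_mul_eq_one_left haa
  have haQ : ∀ r ∈ o2 P, r * a = a * r := by
    intro r hr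
    apply comm_of_conj
    have e1 : r * x₀ * y * (r * x₀)⁻¹ = (r * a * r⁻¹) * (r * y * r⁻¹) := by
      calc r * x₀ * y * (r * x₀)⁻¹ = r * (x₀ * y * x₀⁻¹) * r⁻¹ := by group
        _ = (r * a * r⁻¹) * (r * y * r⁻¹) := by rw [hx₀y]; group
    have hne' : r * a * r⁻¹ ≠ 1 := fun h0 => ha1 (by
      calc a = r⁻¹ * (r * a * r⁻¹) * r := by group
        _ = 1 := by rw [h0]; group)
    rcases hQ r hr with h1 | h1 <;> rcases hQ (r * x₀) (mul_mem hr hx₀) with h2 | h2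
    · exfalso
      rw [e1, h1] at h2
      exact hne' (mul_eq_right.1 h2)
    · rw [e1, h1] at h2
      exact mul_right_cancel h2
    · rw [e1, h1, ← mul_assoc] at h2
      have h3 := mul_eq_right.1 h2
      exact (eq_inv_of_mul_eq_one_left h3).trans hai
    · exfalso
      rw [e1, h1] at h2
      exact hne' (mul_eq_right.1 h2)
  have haV := h.zv haa haQ
  -- the duads disjoint from `n`
  have claim : ∀ c d : Pt k m, c.1 = d.1 → c ≠ d → c ≠ p → c ≠ q → d ≠ p → d ≠ q → E M a c = E M a d := by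
    intro c d hcd hncd hcp hcq hdp hdq
    by_contra hE
    obtain ⟨w, hw, hwp⟩ := h.par c d hcd hncd
    have hwq := h.KK_le hcd hncd hw
    have hwP := h.QP c d hcd hncd hwq
    have hwa : w * a * w⁻¹ = pr M c d * a := (h.act hwP hcd hncd hwp haV).2 hE
    have hr1 := pr_ne_one M hcd hncd
    -- (1)
    have s1 : ∀ u ∈ zc (qz (pr M c d)), y * u = u * y := by
      intro u hu
      rcases hQ u (h.zc_le_Q hcd hncd hu) with h1 | h1
      · exact (comm_of_conj h1).symm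
      · exfalso
        have h2 : a ∈ zc (qz (pr M c d)) := by
          have h3 : a = u * (y * u⁻¹ * y⁻¹) := by
            calc a = (a * y) * y⁻¹ := by group
              _ = u * (y * u⁻¹ * y⁻¹) := by rw [← h1]; group
          rw [h3]
          exact mul_mem hu (zc_conj' (h.zcV hpq hne hy (pr_mem M c d)) (inv_mem hu))
        exact hE (h.E_of_zc hcd hncd haV h2)
    -- (2)
    have hEn : E M (pr M p q) c = E M (pr M p q) d := by
      rw [E_pr_of_ne M hpq hcp hcq, E_pr_of_ne M hpq hdp hdq]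
    have hyq : y ∈ qz (pr M c d) := h.mem_qz_of hpq hne hcd hncd hEn hy s1
    -- (3)
    obtain ⟨ρ, hρ, hρy⟩ : ∃ ρ ∈ V, w * y * w⁻¹ = ρ * y := by
      rcases h.KK_act hw hyq with h1 | h1
      · exact ⟨1, one_mem _, by rw [one_mul]; exact h1⟩
      · exact ⟨_, pr_mem M c d, h1⟩
    have hx' : w * x₀ * w⁻¹ ∈ o2 P := h.nQ hwP hx₀
    have e1 : (w * x₀ * w⁻¹) * (ρ * y) * (w * x₀ * w⁻¹)⁻¹ = pr M c d * a * (ρ * y) := by
      calc (w * x₀ * w⁻¹) * (ρ * y) * (w * x₀ * w⁻¹)⁻¹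
          = w * x₀ * w⁻¹ * (w * y * w⁻¹) * (w * x₀ * w⁻¹)⁻¹ := by rw [hρy]
        _ = w * (x₀ * y * x₀⁻¹) * w⁻¹ := by group
        _ = (w * a * w⁻¹) * (w * y * w⁻¹) := by rw [hx₀y]; group
        _ = pr M c d * a * (ρ * y) := by rw [hwa, hρy]
    have e2 : (w * x₀ * w⁻¹) * (ρ * y) * (w * x₀ * w⁻¹)⁻¹ =
        ρ * ((w * x₀ * w⁻¹) * y * (w * x₀ * w⁻¹)⁻¹) := by
      calc (w * x₀ * w⁻¹) * (ρ * y) * (w * x₀ * w⁻¹)⁻¹
          = ((w * x₀ * w⁻¹) * ρ) * y * (w * x₀ * w⁻¹)⁻¹ := by group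
        _ = ρ * ((w * x₀ * w⁻¹) * y * (w * x₀ * w⁻¹)⁻¹) := by rw [h.QcV hx' hρ]; group
    rw [e1] at e2
    have hρa : ρ * a = a * ρ := h.Vcomm hρ haV
    rcases hQ _ hx' with h6 | h6
    · rw [h6] at e2
      have h8 := mul_eq_right.1 e2
      -- `pr c d * a = 1`
      have h9 : a = pr M c d := by
        have h10 := eq_inv_of_mul_eq_one_right h8
        rw [h10]
        exact inv_eq_of_mul_eq_one_left (h.pr_sq c d)
      apply hE
      rw [h9, E_pr_left M hcd hncd, E_pr_right M hcd hncd]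
    · rw [h6] at e2
      have h8 : pr M c d * a * (ρ * y) = a * (ρ * y) := by
        rw [e2, ← mul_assoc, hρa, mul_assoc]
      have h9 := mul_right_cancel h8
      exact hr1 (mul_eq_right.1 h9)
  have hEpq : E M a p = E M a q := h.E_of_zc hpq hne haV haU
  obtain ⟨r₀, hr₀, hr₀s⟩ := exists_pt4 h.hm p.1 ({p, q} : Finset (Pt k m)) (Finset.card_le_two.trans (by norm_num))
  rw [Finset.mem_insert, Finset.mem_singleton, not_or] at hr₀s
  obtain ⟨b, hb⟩ : ∃ b, b = a * sc (E M a p + E M a r₀) (pr M p q) := ⟨_, rfl⟩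
  have hscV : sc (E M a p + E M a r₀) (pr M p q) ∈ V := sc_mem (pr_mem M p q)
  have hbV : b ∈ V := by rw [hb]; exact mul_mem haV hscV
  have hbE : ∀ r, E M b r = E M a r + (E M a p + E M a r₀) * E M (pr M p q) r := by
    intro r
    rw [hb, Half.SymA.E_mul M haV hscV, E_sc]
  have hz2 : ∀ x y : ZMod 2, x + (x + y) * 1 = y := by decide
  have hb0 : ∀ r : Pt k m, r.1 = p.1 → E M b r = E M a r₀ := by
    intro r hr
    rcases eq_or_ne r p with rfl | hrp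
    · rw [hbE, E_pr_left M hpq hne]
      exact hz2 _ _
    · rcases eq_or_ne r q with rfl | hrq
      · rw [hbE, E_pr_right M hpq hne, hEpq]
        exact hz2 _ _
      · rw [hbE, E_pr_of_ne M hpq hrp hrq, mul_zero, add_zero]
        rcases eq_or_ne r r₀ with rfl | h0
        · rfl
        · exact claim r r₀ (hr.trans hr₀.symm) h0 hrp hrq hr₀s.1 hr₀s.2
  have hb1 : b = 1 := by
    refine eq_one_of_const M h.hm1 hbV fun c d hcd hncd => ?_
    by_cases hc : c.1 = p.1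
    · rw [hb0 c hc, hb0 d (hcd.symm.trans hc)]
    · have hcp : c ≠ p := fun h0 => hc (by rw [h0])
      have hcq : c ≠ q := fun h0 => hc (by rw [h0, hpq])
      have hdp : d ≠ p := fun h0 => hc (by rw [hcd, h0])
      have hdq : d ≠ q := fun h0 => hc (by rw [hcd, h0, hpq])
      rw [hbE, hbE, E_pr_of_ne M hpq hcp hcq, E_pr_of_ne M hpq hdp hdq, mul_zero, add_zero, add_zero]
      exact claim c d hcd hncd hcp hcq hdp hdq
  rw [hb] at hb1
  rcases Half.SymA.zmod2 (E M a p + E M a r₀) with h1 | h1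
  · rw [h1, sc_zero, mul_one] at hb1
    exact absurd hb1 ha1
  · rw [h1, sc_one] at hb1
    rw [eq_inv_of_mul_eq_one_left hb1]
    exact inv_eq_of_mul_eq_one_left (h.pr_sq p q)

end SN

end Cfsg.Agent.Omega.IId.SymWr
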