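import Cfsg.Agent.Omega.IId.SymWr.SylN.One
import Cfsg.Agent.Omega.IId.SymWr.LTwoTr

/-!
# II.d, `SwBig`: `T_n = C_S(n)` is Sylow in `C_G(n)` (bb OMEGA #19775, helper666, #20093, helper290), V: LEMMA 3

`n = pr M x (μ x)`, `T = C_S(n)`.

* `SN.centre_of` : an element of `T` which acts on `n^⊥` as a transvection has its centre in `MM - {n}`, where `MM` is
  the set of the pairs of `S`;
* `SN.three` : **LEMMA 3** : `t ∈ C_G(n)`, `T ^ t = T` ⇒ `t` normalises `V` and permutes `MM - {n}`, if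
  `t` normalises `n^⊥` (LEMMA 2).
-/

set_option autoImplicit false
set_option linter.unusedSectionVars false

namespace Cfsg.Agent.Omega.IId.SymWr

open Subgroup Pointwise Cfsg Cfsg.Agent.ZN Cfsg.Agent.Omega.MinPar Cfsg.Agent.Omega.FFThm
open Cfsg.Agent.Omega.Half.SymA (Pt E Mv pm)
open Cfsg.Agent.MinSimple.VModule (mem_zc zc_le zc_comm zc_sq le_normalizer_o2 o2_isPGroup o2_le)
open Triangle (KK KK_conj KK_le_o2 mem_cent mem_KK mem_zpowers_iff_of_sq cent_conj o2_cent_conj)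
open Big (cz qz conj_mem norm_of conj_of_comm comm_of_conj le_o2_of)

universe u

variable {G : Type u} [Group G] {P V : Subgroup G} {k m : ℕ}

namespace SN

variable [Finite G] {S : Sylow 2 G} {M : SymK (S : Subgroup G) P V ⊥ k m} (h : SN S P V M)
  {μ ν : Equiv.Perm (Pt k m)} (F : Fours M μ ν) {x : Pt k m} (hx : x.2 ≠ 0)
include h F hx

/-- the elements of `C_S(n)` preserve `{x, μ x}` -/
theorem pair_of {g : G} (hg : g ∈ (S : Subgroup G)) (hgn : g * pr M x (μ x) = pr M x (μ x) * g) :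
    (pp M g x = x ∧ pp M g (μ x) = μ x) ∨ (pp M g x = μ x ∧ pp M g (μ x) = x) := by
  rcases (LTwoTr.comm_dd_iff h.toSit F hg hx).1 hgn with h1 | h1
  · left; exact ⟨h1, by rw [F.meqv g hg, h1]⟩
  · right; exact ⟨h1, by rw [F.meqv g hg, h1, F.msq]⟩

/-- **the centres of the transvections of `C_S(n)` on `n^⊥`** -/
theorem centre_of {g q : G} (hg : g ∈ (S : Subgroup G)) (hgn : g * pr M x (μ x) = pr M x (μ x) * g) (hq : q ∈ V)
    (hq1 : q ≠ 1) (h1 : ∀ v ∈ V, E M v x = E M v (μ x) → g * v * g⁻¹ = v ∨ g * v * g⁻¹ = q * v)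
    (h2 : ∃ v ∈ V, E M v x = E M v (μ x) ∧ g * v * g⁻¹ = q * v) :
    ∃ a : Pt k m, a.2 ≠ 0 ∧ a ≠ x ∧ a ≠ μ x ∧ q = pr M a (μ a) := by
  classical
  have hgP := h.SP hg
  have hmx : (μ x).2 ≠ 0 := fun h0 => hx (F.mnz.1 h0)
  set σ := pp M g with hσ
  have hσinj : ∀ a b, σ a = σ b → a = b := fun a b hab => σ.injective hab
  have hpair := h.pair_of F hx hg hgn
  -- (A)
  have hA : ∀ c : Pt k m, c.2 ≠ 0 → c ≠ x → c ≠ μ x → σ c ≠ c →
      ∀ r, E M q r = E M (pr M (σ (c.1, 0)) (σ c)) r + E M (pr M (c.1, 0) c) r := by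
    intro c hc hcx hcm hσc r
    have hv := pr_mem M (c.1, 0) c
    have hE0 : ∀ y : Pt k m, y.2 ≠ 0 → y ≠ c → E M (pr M (c.1, 0) c) y = 0 := by
      intro y hy hyc
      exact E_pr_of_ne M (p := (c.1, 0)) (q := c) rfl (fun h0 => hy (by rw [h0])) hyc
    have hcj : g * pr M (c.1, 0) c * g⁻¹ = pr M (σ (c.1, 0)) (σ c) := h.conj_pr hgP rfl
    rcases h1 _ hv (by rw [hE0 x hx hcx.symm, hE0 _ hmx hcm.symm]) with h3 | h3
    · exfalso
      have h4 : E M (g * pr M (c.1, 0) c * g⁻¹) (σ c) = E M (pr M (c.1, 0) c) c := E_conj hgP hv c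
      rw [h3, hE0 (σ c) (fun h0 => hc ((h.snd hg).1 h0)) hσc,
        E_pr_right M (p := (c.1, 0)) (q := c) rfl (fun h0 => hc (by rw [← h0]))] at h4
      exact zero_ne_one h4
    · rw [← hcj, h3, Half.SymA.E_mul M hq hv]
      have : ∀ a b : ZMod 2, a = a + b + b := by decide
      exact this _ _
  -- (B)
  have hB : ∀ c : Pt k m, (σ c).1 = c.1 := by
    intro c
    by_contra hc
    have hblk : ∀ d : Pt k m, d.1 = c.1 → (σ d).1 ≠ c.1 := fun d hd h0 => hc (by rw [← h.fst hgP hd]; exact h0)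
    have hcard3 : ({((c.1, 0) : Pt k m), x, μ x} : Finset (Pt k m)).card ≤ 4 := (Finset.card_le_three).trans (by norm_num)
    obtain ⟨c₁, hc₁, hc₁s⟩ := exists_pt4 h.hm c.1 _ hcard3
    obtain ⟨c₂, hc₂, hc₂s⟩ := exists_pt4 h.hm c.1 ({((c.1, 0) : Pt k m), x, μ x, c₁} : Finset (Pt k m))
      Finset.card_le_four
    simp only [Finset.mem_insert, Finset.mem_singleton, not_or] at hc₁s hc₂s
    have hnz : ∀ d : Pt k m, d.1 = c.1 → d ≠ ((c.1, 0) : Pt k m) → d.2 ≠ 0 := fun d hd hd0 h0 => hd0 (Prod.ext hd h0)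
    have hσ1 : σ c₁ ≠ c₁ := fun h0 => hblk c₁ hc₁ (by rw [h0, hc₁])
    have hσ2 : σ c₂ ≠ c₂ := fun h0 => hblk c₂ hc₂ (by rw [h0, hc₂])
    have e1 := hA c₁ (hnz c₁ hc₁ hc₁s.1) hc₁s.2.1 hc₁s.2.2 hσ1 c₁
    have e2 := hA c₂ (hnz c₂ hc₂ hc₂s.1) hc₂s.2.1 hc₂s.2.2.1 hσ2 c₁
    have hz1 : ∀ d : Pt k m, d.1 = c.1 → c₁ ≠ σ d := fun d hd h0 => hblk d hd (by rw [← h0, hc₁])
    have hf : ∀ d : Pt k m, (σ ((d.1, 0) : Pt k m)).1 = (σ d).1 := fun d => h.fst hgP rfl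
    rw [E_pr_of_ne M (hf c₁) (hz1 _ hc₁) (hz1 _ hc₁),
      E_pr_right M (p := (c₁.1, 0)) (q := c₁) rfl (fun h0 => hnz c₁ hc₁ hc₁s.1 (by rw [← h0]))] at e1
    rw [E_pr_of_ne M (hf c₂) (hz1 _ hc₂) (hz1 _ hc₂),
      E_pr_of_ne M (p := (c₂.1, 0)) (q := c₂) rfl (fun h0 => hnz c₁ hc₁ hc₁s.1 (by rw [h0]))
        (fun h0 => hc₂s.2.2.2 h0.symm)] at e2
    rw [e1] at e2
    exact absurd e2 (by decide)
  have h0fix : ∀ i : Fin k, σ (i, 0) = (i, 0) := fun i =>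
    Prod.ext (hB (i, 0)) ((h.snd hg).2 rfl)
  -- (E)
  have hE : ∀ c : Pt k m, c.2 ≠ 0 → c ≠ x → c ≠ μ x → σ c ≠ c → q = pr M c (σ c) := by
    intro c hc hcx hcm hσc
    refine Half.SymA.inj M hq (pr_mem M _ _) fun r => ?_
    rw [hA c hc hcx hcm hσc r, h0fix, E_pr M (p := (c.1, 0)) (q := σ c) (hB c).symm, E_pr M (p := (c.1, 0)) (q := c) rfl,
      E_pr M (p := c) (q := σ c) (hB c).symm]
    have : ∀ a b c : ZMod 2, a + b + (a + c) = c + b := by decide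
    exact this _ _ _
  -- (D)
  obtain ⟨c, hc, hcx, hcm, hσc⟩ : ∃ c : Pt k m, c.2 ≠ 0 ∧ c ≠ x ∧ c ≠ μ x ∧ σ c ≠ c := by
    by_contra hcon
    push Not at hcon
    obtain ⟨v, hv, hvE, hv2⟩ := h2
    have h3 : g * v = v * g := by
      refine (h.comm_iff hgP hv).2 fun p => ?_
      rw [← hσ]
      by_cases hp0 : p.2 = 0
      · have : p = (p.1, 0) := Prod.ext rfl hp0
        rw [this, h0fix]
      · rcases eq_or_ne p x with rfl | hpx
        · rcases hpair with h4 | h4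
          · rw [h4.1]
          · rw [h4.1, hvE]
        · rcases eq_or_ne p (μ x) with rfl | hpm
          · rcases hpair with h4 | h4
            · rw [h4.2]
            · rw [h4.2, hvE]
          · rw [hcon p hp0 hpx hpm]
    rw [conj_of_comm h3] at hv2
    exact hq1 (mul_eq_right.1 hv2.symm)
  refine ⟨c, hc, hcx, hcm, ?_⟩
  have hqc := hE c hc hcx hcm hσc
  have hkey : σ c = μ c := by
    by_contra hne
    have hmc : (μ c).2 ≠ 0 := fun h0 => hc (F.mnz.1 h0)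
    have hσm : σ (μ c) = μ (σ c) := F.meqv g hg c
    have h4 : σ (μ c) ≠ μ c := fun h0 => hσc (μ.injective (by rw [← hσm, h0]))
    have h5 := hE (μ c) hmc (fun h0 => hcm (by rw [← h0, F.msq])) (fun h0 => hcx (μ.injective h0)) h4
    have h6 : E M q c = 1 := by rw [hqc, E_pr_left M (hB c).symm hσc.symm]
    rw [h5, E_pr_of_ne M (hB (μ c)).symm (F.mne c hc).symm (fun h0 => hne (by
      have h7 := congrArg μ h0
      rw [hσm, F.msq] at h7
      exact h7.symm))] at h6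
    exact zero_ne_one h6
  rw [hqc, hkey]

variable {T : Subgroup G} (hT : T = (S : Subgroup G) ⊓ centralizer ({pr M x (μ x)} : Set G))
include hT

theorem mem_T {g : G} : g ∈ T ↔ g ∈ (S : Subgroup G) ∧ g * pr M x (μ x) = pr M x (μ x) * g := by
  rw [hT, mem_inf, mem_centralizer_singleton_iff]

theorem Q_le_T : o2 P ≤ T := fun _ hg => (h.mem_T F hx hT).2 ⟨h.QS hg, h.QcV hg (pr_mem M x (μ x))⟩

/-- **LEMMA 3.** -/
theorem three (h2 : ∀ t : G, t * pr M x (μ x) = pr M x (μ x) * t → t ∈ normalizer (T : Set G) → ∀ v ∈ V,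
      E M v x = E M v (μ x) → t * v * t⁻¹ ∈ V ∧ E M (t * v * t⁻¹) x = E M (t * v * t⁻¹) (μ x)) {t : G}
    (ht : t * pr M x (μ x) = pr M x (μ x) * t) (htT : t ∈ normalizer (T : Set G)) :
    t ∈ normalizer (V : Set G) ∧ ∀ a : Pt k m, a.2 ≠ 0 → a ≠ x → a ≠ μ x → ∃ a' : Pt k m, a'.2 ≠ 0 ∧ a' ≠ x ∧ a' ≠ μ x ∧
      t * pr M a (μ a) * t⁻¹ = pr M a' (μ a') := by
  classical
  have ht' : t⁻¹ * pr M x (μ x) = pr M x (μ x) * t⁻¹ := by
    rw [inv_mul_eq_iff_eq_mul, ← mul_assoc, ht, mul_inv_cancel_right]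
  have htT' : t⁻¹ ∈ normalizer (T : Set G) := inv_mem htT
  have hmx : (μ x).2 ≠ 0 := fun h0 => hx (F.mnz.1 h0)
  have hTt : ∀ g ∈ T, t * g * t⁻¹ ∈ T := fun g hg => (mem_normalizer_iff.1 htT g).1 hg
  have hTt' : ∀ g ∈ T, t⁻¹ * g * t ∈ T := fun g hg => by
    have := (mem_normalizer_iff.1 htT' g).1 hg
    rwa [inv_inv] at this
  -- the permutation of `MM - {n}`
  have key : ∀ a : Pt k m, a.2 ≠ 0 → a ≠ x → a ≠ μ x → ∃ a' : Pt k m, a'.2 ≠ 0 ∧ a' ≠ x ∧ a' ≠ μ x ∧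
      t * pr M a (μ a) * t⁻¹ = pr M a' (μ a') := by
    intro a ha hax ham
    have hamx : μ a ≠ x := fun h0 => ham (by rw [← h0, F.msq])
    have hamm : μ a ≠ μ x := fun h0 => hax (μ.injective h0)
    have hEq : E M (pr M a (μ a)) x = E M (pr M a (μ a)) (μ x) := by
      rw [E_pr_of_ne M (F.mfst a).symm hax.symm hamx.symm, E_pr_of_ne M (F.mfst a).symm ham.symm hamm.symm]
    obtain ⟨g, hgA, hgp⟩ := Fours.exists_A h.toSit F (π := Equiv.swap a (μ a)) (by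
      rw [Fours.mem_FA]
      intro p
      rcases eq_or_ne p a with rfl | hpa
      · right; rw [Equiv.swap_apply_left]
      · rcases eq_or_ne p (μ a) with rfl | hpm
        · right; rw [Equiv.swap_apply_right, F.msq]
        · left; rw [Equiv.swap_apply_of_ne_of_ne hpa hpm])
    have hgS := hgA.1
    have hgP := h.SP hgS
    have hgn : g * pr M x (μ x) = pr M x (μ x) * g :=
      (h.act_iff hgP (F.mfst a).symm (F.mne a ha).symm hgp (pr_mem M _ _)).2 (by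
        rw [E_pr_of_ne M (F.mfst x).symm hax ham, E_pr_of_ne M (F.mfst x).symm hamx hamm])
    have hgT : g ∈ T := (h.mem_T F hx hT).2 ⟨hgS, hgn⟩
    obtain ⟨hg'S, hg'n⟩ := (h.mem_T F hx hT).1 (hTt g hgT)
    obtain ⟨hqV, -⟩ := h2 t ht htT _ (pr_mem M a (μ a)) hEq
    refine h.centre_of F hx hg'S hg'n hqV ?_ ?_ ?_
    · intro h0
      apply pr_ne_one M (F.mfst a).symm (F.mne a ha).symm
      calc pr M a (μ a) = t⁻¹ * (t * pr M a (μ a) * t⁻¹) * t := by group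
        _ = 1 := by rw [h0]; group
    · intro v hv hvE
      obtain ⟨hv', -⟩ := h2 t⁻¹ ht' htT' v hv hvE
      rw [inv_inv] at hv'
      have e : t * g * t⁻¹ * v * (t * g * t⁻¹)⁻¹ = t * (g * (t⁻¹ * v * t) * g⁻¹) * t⁻¹ := by group
      rw [e]
      have h3 := h.act hgP (F.mfst a).symm (F.mne a ha).symm hgp hv'
      by_cases h4 : E M (t⁻¹ * v * t) a = E M (t⁻¹ * v * t) (μ a)
      · left; rw [h3.1 h4]; group
      · right; rw [h3.2 h4]; group
    · have hv := pr_mem M (a.1, 0) a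
      have hE0 : ∀ y : Pt k m, y.2 ≠ 0 → y ≠ a → E M (pr M (a.1, 0) a) y = 0 := fun y hy hya =>
        E_pr_of_ne M (p := (a.1, 0)) (q := a) rfl (fun h0 => hy (by rw [h0])) hya
      have hE1 : E M (pr M (a.1, 0) a) a = 1 :=
        E_pr_right M (p := (a.1, 0)) (q := a) rfl (fun h0 => ha (by rw [← h0]))
      obtain ⟨hv1, hv2⟩ := h2 t ht htT _ hv (by rw [hE0 x hx hax.symm, hE0 _ hmx ham.symm])
      refine ⟨_, hv1, hv2, ?_⟩
      have h3 := (h.act hgP (F.mfst a).symm (F.mne a ha).symm hgp hv).2 (by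
        rw [hE1, hE0 (μ a) (fun h0 => ha (F.mnz.1 h0)) (F.mne a ha)]
        exact one_ne_zero)
      calc t * g * t⁻¹ * (t * pr M (a.1, 0) a * t⁻¹) * (t * g * t⁻¹)⁻¹ = t * (g * pr M (a.1, 0) a * g⁻¹) * t⁻¹ := by
            group
        _ = t * pr M a (μ a) * t⁻¹ * (t * pr M (a.1, 0) a * t⁻¹) := by rw [h3]; group
  refine ⟨?_, key⟩
  -- `e = {0, x}`
  obtain ⟨e, he⟩ : ∃ e, e = pr M (x.1, 0) x := ⟨_, rfl⟩
  have heV : e ∈ V := by rw [he]; exact pr_mem M _ _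
  have hx0 : ((x.1, 0) : Pt k m) ≠ x := fun h0 => hx (by rw [← h0])
  have hE0 : ∀ y : Pt k m, y.2 ≠ 0 → y ≠ x → E M e y = 0 := fun y hy hyx => by
    rw [he]; exact E_pr_of_ne M (p := (x.1, 0)) (q := x) rfl (fun h0 => hy (by rw [h0])) hyx
  have hE1 : E M e x = 1 := by rw [he]; exact E_pr_right M (p := (x.1, 0)) (q := x) rfl hx0
  -- `[e, T] ≤ ⟨n⟩`
  have heT : ∀ g ∈ T, g * e * g⁻¹ = e ∨ g * e * g⁻¹ = pr M x (μ x) * e := by
    intro g hg
    obtain ⟨hgS, hgn⟩ := (h.mem_T F hx hT).1 hg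
    have hgP := h.SP hgS
    have hcj : g * e * g⁻¹ = pr M (pp M g (x.1, 0)) (pp M g x) := by rw [he]; exact h.conj_pr hgP rfl
    have hfst : (pp M g (x.1, 0)).1 = (pp M g x).1 := h.fst hgP rfl
    have hsnd : (pp M g (x.1, 0)).2 = 0 := (h.snd hgS).2 rfl
    rcases h.pair_of F hx hgS hgn with h3 | h3
    · left
      have h4 : pp M g (x.1, 0) = (x.1, 0) := Prod.ext (by rw [hfst, h3.1]) hsnd
      rw [hcj, h4, h3.1, he]
    · right
      have h4 : pp M g (x.1, 0) = (x.1, 0) := Prod.ext (by rw [hfst, h3.1, F.mfst]) hsnd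
      rw [hcj, h4, h3.1, he, h.Vcomm (pr_mem M _ _) (pr_mem M _ _)]
      exact (pr_mul M (p := (x.1, 0)) (q := x) (r := μ x) rfl (F.mfst x).symm).symm
  -- a letter `a ≠ x, μ x`
  have hax : ν x ≠ x := F.nne x hx
  have ham : ν x ≠ μ x := F.nmu x hx
  have ha : (ν x).2 ≠ 0 := fun h0 => hx (F.nnz.1 h0)
  obtain ⟨a', ha', ha'x, ha'm, hqa⟩ := key (ν x) ha hax ham
  have hu : e ∈ zc (qz (pr M (ν x) (μ (ν x)))) := by
    refine h.perp (F.mfst (ν x)).symm (F.mne _ ha).symm heV ?_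
    rw [hE0 _ ha hax, hE0 _ (fun h0 => ha (F.mnz.1 h0)) (fun h0 => ham (by
      have h7 := congrArg μ h0
      rwa [F.msq] at h7))]
  have hu' : t * e * t⁻¹ ∈ zc (qz (pr M a' (μ a'))) := by
    obtain ⟨h3, h4, h5⟩ := mem_zc.1 hu
    have hti : t⁻¹ * pr M a' (μ a') * t⁻¹⁻¹ = pr M (ν x) (μ (ν x)) := by rw [← hqa]; group
    refine mem_zc.2 ⟨LTwoTr.o2_cj hqa h3, fun g hg => ?_, ?_⟩
    · have h6 := h4 _ (LTwoTr.o2_cj hti hg)
      calc g * (t * e * t⁻¹) = t * (t⁻¹ * g * t⁻¹⁻¹ * e) * t⁻¹ := by group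
        _ = t * e * t⁻¹ * g := by rw [h6]; group
    · rw [pow_two]
      calc t * e * t⁻¹ * (t * e * t⁻¹) = t * (e * e) * t⁻¹ := by group
        _ = 1 := by rw [h.Vsq heV]; group
  have hcQ : ∀ g ∈ o2 P, g * (t * e * t⁻¹) * g⁻¹ = t * e * t⁻¹ ∨ g * (t * e * t⁻¹) * g⁻¹ = pr M x (μ x) * (t * e * t⁻¹) := by
    intro g hg
    have h3 := hTt' g (h.Q_le_T F hx hT hg)
    have e1 : g * (t * e * t⁻¹) * g⁻¹ = t * ((t⁻¹ * g * t) * e * (t⁻¹ * g * t)⁻¹) * t⁻¹ := by group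
    rw [e1]
    rcases heT _ h3 with h4 | h4
    · left; rw [h4]
    · right
      rw [h4]
      calc t * (pr M x (μ x) * e) * t⁻¹ = (t * pr M x (μ x)) * e * t⁻¹ := by group
        _ = pr M x (μ x) * (t * e * t⁻¹) := by rw [ht]; group
  have hte : t * e * t⁻¹ ∈ V := by
    refine h.zv ?_ fun g hg => ?_
    · calc t * e * t⁻¹ * (t * e * t⁻¹) = t * (e * e) * t⁻¹ := by group
        _ = 1 := by rw [h.Vsq heV]; group
    · rcases hcQ g hg with h3 | h3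
      · exact comm_of_conj h3
      · exfalso
        have h4 := h.one (F.mfst a').symm (F.mne a' ha').symm hu' (pr_ne_one M (F.mfst x).symm (F.mne x hx).symm) hcQ
          ⟨g, hg, h3⟩
        have h5 : E M (pr M x (μ x)) a' = 1 := by rw [h4, E_pr_left M (F.mfst a').symm (F.mne a' ha').symm]
        rw [E_pr_of_ne M (F.mfst x).symm ha'x ha'm] at h5
        exact zero_ne_one h5
  refine MinSimple.VModule.mem_normalizer_of_map_le ?_
  rintro _ ⟨v, hv, rfl⟩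
  change t * v * t⁻¹ ∈ V
  by_cases hvE : E M v x = E M v (μ x)
  · exact (h2 t ht htT v hv hvE).1
  · have hev : E M (e * v) x = E M (e * v) (μ x) := by
      rw [Half.SymA.E_mul M heV hv, Half.SymA.E_mul M heV hv, hE1, hE0 _ hmx (F.mne x hx)]
      have : ∀ a b : ZMod 2, a ≠ b → 1 + a = 0 + b := by decide
      exact this _ _ hvE
    have h3 := (h2 t ht htT _ (mul_mem heV hv) hev).1
    have e1 : t * v * t⁻¹ = (t * e * t⁻¹)⁻¹ * (t * (e * v) * t⁻¹) := by group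
    rw [e1]
    exact mul_mem (inv_mem hte) h3

end SN

end Cfsg.Agent.Omega.IId.SymWr
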