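import Cfsg.Agent.Omega.IId.SymWr.SylN.One

/-!
# II.d, `SwBig`: `T_n = C_S(n)` is Sylow in `C_G(n)` (bb OMEGA #19775, helper666), IV: LEMMA 2

`n = pr M x₀ (μ x₀)` an `S`-duad, `T = C_S(n)`, `t ∈ C_G(n)` normalising `T`:

* `exists_nu` : a 2-group in `T` moving a letter `c ∉ n`: a vector `ν` outside `n` with an orbit of length 2;
* `tv` : the centres of the elements of `S` acting as transvections;
* `fix_t`, `lem2`, `lem2'` : **LEMMA 2** : `t` normalises `n^⊥`; `perm_t` : `t` permutes the `S`-duads `≠ n`.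
-/

set_option autoImplicit false
set_option linter.unusedSectionVars false

namespace Cfsg.Agent.Omega.IId.SymWr

open Subgroup Pointwise Cfsg Cfsg.Agent.ZN Cfsg.Agent.Omega.MinPar Cfsg.Agent.Omega.FFThm
open Cfsg.Agent.Omega.Half (Amb amb_of_loc)
open Cfsg.Agent.Omega.Half.SymA (Pt E Mv pm)
open Cfsg.Agent.MinSimple.VModule (mem_zc zc_le zc_comm zc_sq zc_le_zl le_normalizer_o2 o2_isPGroup o2_le
  normalizer_le_normalizer_zc le_normalizer_zl)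
open Triangle (KK KK_conj KK_le_o2 mem_cent mem_KK mem_zpowers_iff_of_sq cent_conj o2_cent_conj)
open Big (cz qz conj_mem norm_of conj_of_comm comm_of_conj le_o2_of)
open Big.Syl (YY mem_YY YY_le exists_mem_zc)

universe u

variable {G : Type u} [Group G] {P V : Subgroup G} {k m : ℕ}

section tools

variable {S : Subgroup G} (M : SymK S P V ⊥ k m)

open scoped Classical in
theorem E_zz {c q : Pt k m} (hq : q.2 ≠ 0) : E M (pr M (c.1, 0) c) q = if q = c then 1 else 0 := by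
  rw [E_pr M (p := (c.1, 0)) (q := c) rfl, if_neg (fun h0 : q = (c.1, 0) => hq (by rw [h0])), zero_add]

/-- the elements of `V` vanishing at two points -/
def van (a b : Pt k m) : Subgroup G where
  carrier := {v | v ∈ V ∧ E M v a = 0 ∧ E M v b = 0}
  mul_mem' := by
    rintro v w ⟨hv, h1, h2⟩ ⟨hw, h3, h4⟩
    refine ⟨mul_mem hv hw, ?_, ?_⟩
    · rw [Half.SymA.E_mul M hv hw, h1, h3, add_zero]
    · rw [Half.SymA.E_mul M hv hw, h2, h4, add_zero]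
  one_mem' := ⟨one_mem _, Half.SymA.E_one M _, Half.SymA.E_one M _⟩
  inv_mem' := by
    rintro v ⟨hv, h1, h2⟩
    have hz : ∀ r, E M v⁻¹ r = E M v r := by
      intro r
      have h3 := Half.SymA.E_mul M hv (inv_mem hv) r
      rw [mul_inv_cancel, Half.SymA.E_one M] at h3
      have : ∀ x y : ZMod 2, 0 = x + y → y = x := by decide
      exact this _ _ h3
    exact ⟨inv_mem hv, by rw [hz, h1], by rw [hz, h2]⟩

theorem mem_van {a b : Pt k m} {v : G} : v ∈ van M a b ↔ v ∈ V ∧ E M v a = 0 ∧ E M v b = 0 := Iff.rfl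

end tools

namespace Sit

variable {S : Sylow 2 G} {M : SymK (S : Subgroup G) P V ⊥ k m} (h : Sit S P V M)
include h

theorem pp_zero {s : G} (hs : s ∈ (S : Subgroup G)) (c : Pt k m) : pp M s (c.1, 0) = ((pp M s c).1, 0) :=
  Prod.ext (h.fst (h.SP hs) rfl) ((h.snd hs).2 rfl)

theorem conj_zz {s : G} (hs : s ∈ (S : Subgroup G)) (c : Pt k m) :
    s * pr M (c.1, 0) c * s⁻¹ = pr M ((pp M s c).1, 0) (pp M s c) := by
  rw [h.conj_pr (h.SP hs) (p := (c.1, 0)) (q := c) rfl, h.pp_zero hs]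

variable {μ ν : Equiv.Perm (Pt k m)} (F : Fours M μ ν) {x₀ : Pt k m} (hx : x₀.2 ≠ 0)
include F hx

/-- the elements of `S` commuting with the `S`-duad `{x₀, μ x₀}` -/
theorem T_pt {s : G} (hs : s ∈ (S : Subgroup G)) (hsn : s * pr M x₀ (μ x₀) = pr M x₀ (μ x₀) * s) :
    (pp M s x₀ = x₀ ∧ pp M s (μ x₀) = μ x₀) ∨ (pp M s x₀ = μ x₀ ∧ pp M s (μ x₀) = x₀) := by
  have h1 := (h.comm_iff (h.SP hs) (pr_mem M x₀ (μ x₀))).1 hsn x₀
  rw [E_pr_left M (F.mfst x₀).symm (F.mne x₀ hx).symm] at h1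
  have h2 : pp M s x₀ = x₀ ∨ pp M s x₀ = μ x₀ := by
    by_contra hc
    rw [not_or] at hc
    rw [E_pr_of_ne M (F.mfst x₀).symm hc.1 hc.2] at h1
    exact zero_ne_one h1
  rcases h2 with h2 | h2
  · left
    exact ⟨h2, by rw [F.meqv s hs, h2]⟩
  · right
    exact ⟨h2, by rw [F.meqv s hs, h2, F.msq]⟩

theorem T_out {s : G} (hs : s ∈ (S : Subgroup G)) (hsn : s * pr M x₀ (μ x₀) = pr M x₀ (μ x₀) * s) {c : Pt k m}
    (h1 : c ≠ x₀) (h2 : c ≠ μ x₀) : pp M s c ≠ x₀ ∧ pp M s c ≠ μ x₀ := by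
  rcases h.T_pt F hx hs hsn with ⟨h3, h4⟩ | ⟨h3, h4⟩
  · exact ⟨fun h0 => h1 ((pp M s).injective (h0.trans h3.symm)),
      fun h0 => h2 ((pp M s).injective (h0.trans h4.symm))⟩
  · exact ⟨fun h0 => h2 ((pp M s).injective (h0.trans h4.symm)),
      fun h0 => h1 ((pp M s).injective (h0.trans h3.symm))⟩

/-- the block of `x₀` is preserved -/
theorem T_blk {s : G} (hs : s ∈ (S : Subgroup G)) (hsn : s * pr M x₀ (μ x₀) = pr M x₀ (μ x₀) * s) :
    pp M s (x₀.1, 0) = (x₀.1, 0) := by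
  rw [h.pp_zero hs]
  rcases h.T_pt F hx hs hsn with ⟨h3, -⟩ | ⟨h3, -⟩
  · rw [h3]
  · rw [h3, F.mfst]

/-- a 2-group in `C_S(n)` moving a letter outside `n` : half of an orbit -/
theorem exists_nu [Finite G] {R : Subgroup G} (hR2 : IsPGroup 2 R)
    (hR : ∀ r ∈ R, r ∈ (S : Subgroup G) ∧ r * pr M x₀ (μ x₀) = pr M x₀ (μ x₀) * r) {c : Pt k m} (hc : c.2 ≠ 0)
    (hc1 : c ≠ x₀) (hc2 : c ≠ μ x₀) (hmv : ∃ r ∈ R, pp M r c ≠ c) :
    ∃ ξ ∈ van M x₀ (μ x₀), ∃ b ∈ van M x₀ (μ x₀), b ≠ 1 ∧ (∀ r ∈ R, r * ξ * r⁻¹ = ξ ∨ r * ξ * r⁻¹ = b * ξ) ∧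
      ∃ r ∈ R, r * ξ * r⁻¹ = b * ξ := by
  classical
  have hmx : (μ x₀).2 ≠ 0 := fun h0 => hx (F.mnz.1 h0)
  have hzero : ∀ r ∈ R, (pp M r c).2 ≠ 0 := fun r hr h0 => hc ((h.snd (hR r hr).1).1 h0)
  refine Big.Syl.block (A := van M x₀ (μ x₀)) (N := van M c c) (fun a ha b hb => h.Vcomm ha.1 hb.1) hR2 ?_
    (x := pr M (c.1, 0) c) ?_ ?_ ?_ ?_
  · rintro r hr v ⟨hv, h1, h2⟩
    have hrP := h.SP (hR r hr).1
    have hri := h.T_pt F hx (inv_mem (hR r hr).1)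
      (((show Commute r (pr M x₀ (μ x₀)) from (hR r hr).2).inv_left).eq)
    rw [h.inv hrP] at hri
    refine ⟨h.amb.conj_mem hrP hv, ?_, ?_⟩
    · rw [E_conj' hrP hv]
      rcases hri with ⟨h3, -⟩ | ⟨h3, -⟩ <;> rw [h3]
      · exact h1
      · exact h2
    · rw [E_conj' hrP hv]
      rcases hri with ⟨-, h3⟩ | ⟨-, h3⟩ <;> rw [h3]
      · exact h2
      · exact h1
  · refine ⟨pr_mem M _ _, ?_, ?_⟩
    · rw [E_zz M hx, if_neg hc1.symm]
    · rw [E_zz M hmx, if_neg hc2.symm]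
  · obtain ⟨r, hr, hrc⟩ := hmv
    refine ⟨r, hr, fun h0 => ?_⟩
    rw [h.conj_zz (hR r hr).1] at h0
    have h1 := congrArg (fun v => E M v c) h0
    simp only [E_zz M hc] at h1
    rw [if_neg hrc.symm] at h1
    exact zero_ne_one h1
  · rintro ⟨-, h1, -⟩
    rw [E_zz M hc, if_pos rfl] at h1
    exact one_ne_zero h1
  · intro r hr hne
    rw [h.conj_zz (hR r hr).1] at hne ⊢
    have h1 : c ≠ pp M r c := fun h0 => hne (by rw [← h0])
    have h2 : E M (pr M ((pp M r c).1, 0) (pp M r c)) c = 0 := by rw [E_zz M hc, if_neg h1]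
    exact ⟨pr_mem M _ _, h2, h2⟩

omit hx in
/-- **The centres of the elements of `S` acting as transvections.** -/
theorem tv {B : Finset (Pt k m)} (hB2 : B.card ≤ 2) (hB0 : ∀ b ∈ B, b.2 ≠ 0) (hBμ : ∀ b, μ b ∈ B → b ∈ B) {s r : G}
    (hs : s ∈ (S : Subgroup G)) (h1 : ∀ v ∈ V, (∀ b ∈ B, E M v b = 0) → s * v * s⁻¹ = v ∨ s * v * s⁻¹ = r * v)
    (h2 : ∃ c : Pt k m, c.2 ≠ 0 ∧ c ∉ B ∧ pp M s c ≠ c) : ∃ c : Pt k m, c.2 ≠ 0 ∧ c ∉ B ∧ r = pr M c (μ c) := by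
  classical
  -- the moved points
  have hr : ∀ c : Pt k m, c.2 ≠ 0 → c ∉ B → pp M s c ≠ c →
      r = pr M ((pp M s c).1, 0) (pp M s c) * pr M (c.1, 0) c := by
    intro c hc hcB hmv
    have hv : ∀ b ∈ B, E M (pr M (c.1, 0) c) b = 0 := by
      intro b hb
      rw [E_zz M (hB0 b hb), if_neg (fun h0 : b = c => hcB (h0 ▸ hb))]
    have h3 : s * pr M (c.1, 0) c * s⁻¹ = r * pr M (c.1, 0) c := by
      refine (h1 _ (pr_mem M _ _) hv).resolve_left fun h0 => ?_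
      rw [h.conj_zz hs] at h0
      have h4 := congrArg (fun v => E M v c) h0
      simp only [E_zz M hc] at h4
      rw [if_neg hmv.symm] at h4
      exact zero_ne_one h4
    rw [h.conj_zz hs] at h3
    rw [h3, mul_assoc, h.Vsq (pr_mem M _ _), mul_one]
  have hEr : ∀ c : Pt k m, c.2 ≠ 0 → c ∉ B → pp M s c ≠ c → ∀ q : Pt k m, q.2 ≠ 0 →
      E M r q = (if q = pp M s c then 1 else 0) + (if q = c then 1 else 0) := by
    intro c hc hcB hmv q hq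
    rw [hr c hc hcB hmv, Half.SymA.E_mul M (pr_mem M _ _) (pr_mem M _ _), E_zz M hq, E_zz M hq]
  obtain ⟨c, hc, hcB, hmv⟩ := h2
  have hEc : E M r c = 1 := by
    rw [hEr c hc hcB hmv c hc, if_neg hmv.symm, if_pos rfl, zero_add]
  -- step 1
  have hblk : (pp M s c).1 = c.1 := by
    by_contra hne
    obtain ⟨c₂, hc₂, hc₂s⟩ := exists_pt4 h.hm c.1 (insert (c.1, 0) (insert c B))
      ((Finset.card_insert_le _ _).trans (by
        have := Finset.card_insert_le c B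
        omega))
    rw [Finset.mem_insert, Finset.mem_insert, not_or, not_or] at hc₂s
    obtain ⟨h3, h4, h5⟩ := hc₂s
    have h6 : c₂.2 ≠ 0 := fun h0 => h3 (Prod.ext hc₂ h0)
    have h7 : (pp M s c₂).1 = (pp M s c).1 := h.fst (h.SP hs) hc₂
    have h8 : pp M s c₂ ≠ c₂ := fun h0 => hne (by rw [← h7, h0, hc₂])
    have h9 := hEr c₂ h6 h5 h8 c hc
    rw [if_neg (fun h0 : c = pp M s c₂ => hne (by rw [← h7, ← h0])), if_neg (fun h0 : c = c₂ => h4 h0.symm), hEc,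
      add_zero] at h9
    exact one_ne_zero h9
  -- step 2
  have hμc : (μ c).2 ≠ 0 := fun h0 => hc (F.mnz.1 h0)
  have hμB : μ c ∉ B := fun h0 => hcB (hBμ c h0)
  have hμm : pp M s (μ c) ≠ μ c := fun h0 => hmv (μ.injective (by rw [← F.meqv s hs, h0]))
  have h3 := hEr (μ c) hμc hμB hμm c hc
  rw [hEc, if_neg (F.mne c hc).symm, add_zero, F.meqv s hs] at h3
  have h4 : c = μ (pp M s c) := by
    by_contra h0
    rw [if_neg h0] at h3
    exact one_ne_zero h3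
  have h5 : pp M s c = μ c := by rw [h4, F.msq, ← h4]
  refine ⟨c, hc, hcB, ?_⟩
  rw [hr c hc hcB hmv, h5, h.Vcomm (pr_mem M _ _) (pr_mem M _ _), F.mfst, pr_comm M (p := (c.1, 0)) (q := c) rfl,
    pr_mul M (p := c) (q := (c.1, 0)) (r := μ c) rfl (F.mfst c).symm]

end Sit

namespace SN

variable [Finite G] {S : Sylow 2 G} {M : SymK (S : Subgroup G) P V ⊥ k m} (h : SN S P V M)
  {μ ν : Equiv.Perm (Pt k m)} (F : Fours M μ ν) {x₀ : Pt k m} (hx : x₀.2 ≠ 0)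
include h F hx

/-- an element of `C_S(n)` fixing all letters outside `n` centralises `n^⊥` -/
theorem comm_of_fix {s : G} (hs : s ∈ (S : Subgroup G)) (hsn : s * pr M x₀ (μ x₀) = pr M x₀ (μ x₀) * s)
    (hfix : ∀ c : Pt k m, c.2 ≠ 0 → c ≠ x₀ → c ≠ μ x₀ → pp M s c = c) {v : G} (hv : v ∈ V)
    (hE : E M v x₀ = E M v (μ x₀)) : s * v = v * s := by
  classical
  rw [h.comm_iff (h.SP hs) hv]
  intro p
  by_cases hp1 : p = x₀
  · rw [hp1]
    rcases h.T_pt F hx hs hsn with ⟨h3, -⟩ | ⟨h3, -⟩ <;> rw [h3]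
    exact hE.symm
  by_cases hp2 : p = μ x₀
  · rw [hp2]
    rcases h.T_pt F hx hs hsn with ⟨-, h3⟩ | ⟨-, h3⟩ <;> rw [h3]
    exact hE
  by_cases hp0 : p.2 = 0
  · obtain ⟨c, hc, hcs⟩ := exists_pt4 h.hm p.1 ({(p.1, 0), x₀, μ x₀} : Finset (Pt k m))
      (Finset.card_le_three.trans (by norm_num))
    simp only [Finset.mem_insert, Finset.mem_singleton, not_or] at hcs
    have hc0 : c.2 ≠ 0 := fun h0 => hcs.1 (Prod.ext hc h0)
    have h1 := hfix c hc0 hcs.2.1 hcs.2.2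
    have h2 := h.pp_zero hs c
    rw [h1, hc] at h2
    have h3 : p = (p.1, 0) := Prod.ext rfl hp0
    rw [h3, h2]
  · rw [hfix p hp0 hp1 hp2]

variable {t : G} (ht : t ∈ centralizer ({pr M x₀ (μ x₀)} : Set G))
  (htn : t ∈ normalizer (((S : Subgroup G) ⊓ centralizer ({pr M x₀ (μ x₀)} : Set G) : Subgroup G) : Set G))

omit h F hx in
include ht htn in
theorem conj_T {s : G} (hs : s ∈ (S : Subgroup G)) (hsn : s * pr M x₀ (μ x₀) = pr M x₀ (μ x₀) * s) :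
    t * s * t⁻¹ ∈ (S : Subgroup G) ∧ t * s * t⁻¹ * pr M x₀ (μ x₀) = pr M x₀ (μ x₀) * (t * s * t⁻¹) := by
  have h1 := (mem_normalizer_iff.1 htn s).1 (mem_inf.2 ⟨hs, mem_cent.2 hsn⟩)
  exact ⟨h1.1, mem_cent.1 h1.2⟩

omit h F hx in
include ht htn in
theorem conj_T' {s : G} (hs : s ∈ (S : Subgroup G)) (hsn : s * pr M x₀ (μ x₀) = pr M x₀ (μ x₀) * s) :
    t⁻¹ * s * t ∈ (S : Subgroup G) ∧ t⁻¹ * s * t * pr M x₀ (μ x₀) = pr M x₀ (μ x₀) * (t⁻¹ * s * t) := by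
  have := conj_T (inv_mem ht) (inv_mem htn) hs hsn
  rwa [inv_inv] at this

include ht htn in
/-- `O₂(P)^t` fixes the letters outside `n` -/
theorem fix_t {x : G} (hxQ : x ∈ o2 P) {c : Pt k m} (hc : c.2 ≠ 0) (hc1 : c ≠ x₀) (hc2 : c ≠ μ x₀) :
    pp M (t * x * t⁻¹) c = c := by
  by_contra hmv
  have hpq : x₀.1 = (μ x₀).1 := (F.mfst x₀).symm
  have hne : x₀ ≠ μ x₀ := (F.mne x₀ hx).symm
  have htc : t * pr M x₀ (μ x₀) = pr M x₀ (μ x₀) * t := mem_cent.1 ht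
  obtain ⟨Q', hQ'⟩ : ∃ Q' : Subgroup G, Q' = (o2 P).map (MulAut.conj t).toMonoidHom := ⟨_, rfl⟩
  have hQS : ∀ q' ∈ Q', q' ∈ (S : Subgroup G) ∧ q' * pr M x₀ (μ x₀) = pr M x₀ (μ x₀) * q' := by
    rw [hQ']
    rintro _ ⟨r, hr, rfl⟩
    exact conj_T ht htn (h.QS hr) (h.QcV hr (pr_mem M _ _))
  have hQ'2 : IsPGroup 2 Q' := by
    rw [hQ']
    exact (o2_isPGroup P).map _
  have hmem : ∀ r ∈ o2 P, t * r * t⁻¹ ∈ Q' := by
    intro r hr
    rw [hQ']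
    exact ⟨r, hr, rfl⟩
  obtain ⟨ξ, hξ, b, hb, hb1, h1, q₁, hq₁, h2⟩ := h.exists_nu F hx hQ'2 hQS hc hc1 hc2 ⟨_, hmem x hxQ, hmv⟩
  have hξ' : t⁻¹ * ξ * t ∈ zc (qz (pr M x₀ (μ x₀))) := by
    have h3 : ξ ∈ zc (qz (pr M x₀ (μ x₀))) := h.perp hpq hne hξ.1 (hξ.2.1.trans hξ.2.2.symm)
    have := zc_conj' (mem_cent.1 (inv_mem ht)) h3
    rwa [inv_inv] at this
  have h3 : t⁻¹ * b * t = pr M x₀ (μ x₀) := by
    refine h.one hpq hne hξ' ?_ ?_ ?_
    · intro h0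
      apply hb1
      calc b = t * (t⁻¹ * b * t) * t⁻¹ := by group
        _ = 1 := by rw [h0]; group
    · intro r hr
      rcases h1 (t * r * t⁻¹) (hmem r hr) with h4 | h4
      · left
        calc r * (t⁻¹ * ξ * t) * r⁻¹ = t⁻¹ * (t * r * t⁻¹ * ξ * (t * r * t⁻¹)⁻¹) * t := by group
          _ = t⁻¹ * ξ * t := by rw [h4]
      · right
        calc r * (t⁻¹ * ξ * t) * r⁻¹ = t⁻¹ * (t * r * t⁻¹ * ξ * (t * r * t⁻¹)⁻¹) * t := by group
          _ = t⁻¹ * b * t * (t⁻¹ * ξ * t) := by rw [h4]; group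
    · rw [hQ'] at hq₁
      obtain ⟨r, hr, rfl⟩ := hq₁
      have h4 : t * r * t⁻¹ * ξ * (t * r * t⁻¹)⁻¹ = b * ξ := h2
      refine ⟨r, hr, ?_⟩
      calc r * (t⁻¹ * ξ * t) * r⁻¹ = t⁻¹ * (t * r * t⁻¹ * ξ * (t * r * t⁻¹)⁻¹) * t := by group
        _ = t⁻¹ * b * t * (t⁻¹ * ξ * t) := by rw [h4]; group
  have h4 : b = pr M x₀ (μ x₀) := by
    calc b = t * (t⁻¹ * b * t) * t⁻¹ := by group
      _ = t * pr M x₀ (μ x₀) * t⁻¹ := by rw [h3]
      _ = pr M x₀ (μ x₀) := conj_of_comm htc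
  have h5 := hb.2.1
  rw [h4, E_pr_left M hpq hne] at h5
  exact one_ne_zero h5

include ht htn in
/-- **LEMMA 2** for `t⁻¹`. -/
theorem lem2' {v : G} (hv : v ∈ V) (hE : E M v x₀ = E M v (μ x₀)) :
    t⁻¹ * v * t ∈ V ∧ E M (t⁻¹ * v * t) x₀ = E M (t⁻¹ * v * t) (μ x₀) := by
  have hpq : x₀.1 = (μ x₀).1 := (F.mfst x₀).symm
  have hne : x₀ ≠ μ x₀ := (F.mne x₀ hx).symm
  have h1 : t⁻¹ * v * t ∈ V := by
    refine h.zv ?_ fun q hq => ?_
    · calc t⁻¹ * v * t * (t⁻¹ * v * t) = t⁻¹ * (v * v) * t := by group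
        _ = 1 := by rw [h.Vsq hv]; group
    · obtain ⟨h2, h3⟩ := conj_T ht htn (h.QS hq) (h.QcV hq (pr_mem M _ _))
      have h4 := h.comm_of_fix F hx h2 h3 (fun c hc hc1 hc2 => h.fix_t F hx ht htn hq hc hc1 hc2) hv hE
      calc q * (t⁻¹ * v * t) = t⁻¹ * (t * q * t⁻¹ * v) * t := by group
        _ = t⁻¹ * v * t * q := by rw [h4]; group
  refine ⟨h1, h.E_of_zc hpq hne h1 ?_⟩
  have := zc_conj' (mem_cent.1 (inv_mem ht)) (h.perp hpq hne hv hE)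
  rwa [inv_inv] at this

include ht htn in
/-- **LEMMA 2.** -/
theorem lem2 {v : G} (hv : v ∈ V) (hE : E M v x₀ = E M v (μ x₀)) :
    t * v * t⁻¹ ∈ V ∧ E M (t * v * t⁻¹) x₀ = E M (t * v * t⁻¹) (μ x₀) := by
  have := h.lem2' F hx (inv_mem ht) (inv_mem htn) hv hE
  rwa [inv_inv] at this

include ht htn in
/-- `t` permutes the `S`-duads different from `n` -/
theorem perm_t {p : Pt k m} (hp : p.2 ≠ 0) (hp1 : p ≠ x₀) (hp2 : p ≠ μ x₀) :
    ∃ c : Pt k m, c.2 ≠ 0 ∧ c ≠ x₀ ∧ c ≠ μ x₀ ∧ t * pr M p (μ p) * t⁻¹ = pr M c (μ c) := by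
  classical
  have hpp : p.1 = (μ p).1 := (F.mfst p).symm
  have hpne : p ≠ μ p := (F.mne p hp).symm
  have hμp1 : μ p ≠ x₀ := fun h0 => hp2 (by rw [← h0, F.msq])
  have hμp2 : μ p ≠ μ x₀ := fun h0 => hp1 (μ.injective h0)
  have hμx : (μ x₀).2 ≠ 0 := fun h0 => hx (F.mnz.1 h0)
  have hμp0 : (μ p).2 ≠ 0 := fun h0 => hp (F.mnz.1 h0)
  obtain ⟨s, hs, hsp⟩ := Fours.exists_A h.toSit F (π := Equiv.swap p (μ p)) (by
    intro q
    by_cases h1 : q = p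
    · right; rw [h1, Equiv.swap_apply_left]
    by_cases h2 : q = μ p
    · right; rw [h2, Equiv.swap_apply_right, F.msq]
    · left; exact Equiv.swap_apply_of_ne_of_ne h1 h2)
  have hsS : s ∈ (S : Subgroup G) := hs.1
  have hsP := h.SP hsS
  have hsn : s * pr M x₀ (μ x₀) = pr M x₀ (μ x₀) * s := by
    refine h.comm_pr hsP (F.mfst x₀).symm (Or.inl ⟨?_, ?_⟩)
    · rw [hsp, Equiv.swap_apply_of_ne_of_ne hp1.symm hμp1.symm]
    · rw [hsp, Equiv.swap_apply_of_ne_of_ne hp2.symm hμp2.symm]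
  obtain ⟨hgS, hgn⟩ := conj_T ht htn hsS hsn
  have hEr : E M (pr M p (μ p)) x₀ = E M (pr M p (μ p)) (μ x₀) := by
    rw [E_pr_of_ne M hpp hp1.symm hμp1.symm, E_pr_of_ne M hpp hp2.symm hμp2.symm]
  obtain ⟨c, hc, hcB, hcr⟩ := h.tv F (B := {x₀, μ x₀}) Finset.card_le_two (by
      intro b hb
      rcases Finset.mem_insert.1 hb with rfl | hb
      · exact hx
      · rw [Finset.mem_singleton.1 hb]; exact hμx) (by
      intro b hb
      rcases Finset.mem_insert.1 hb with h1 | h1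
      · rw [← h1, F.msq]
        exact Finset.mem_insert_of_mem (Finset.mem_singleton.2 rfl)
      · rw [μ.injective (Finset.mem_singleton.1 h1)]
        exact Finset.mem_insert_self _ _) (r := t * pr M p (μ p) * t⁻¹) hgS (by
      intro v hv hvB
      have hvE : E M v x₀ = E M v (μ x₀) := by
        rw [hvB x₀ (Finset.mem_insert_self _ _), hvB (μ x₀) (Finset.mem_insert_of_mem (Finset.mem_singleton.2 rfl))]
      obtain ⟨hy, -⟩ := h.lem2' F hx ht htn hv hvE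
      by_cases h3 : E M (t⁻¹ * v * t) p = E M (t⁻¹ * v * t) (μ p)
      · left
        have h4 := (h.act hsP hpp hpne hsp hy).1 h3
        calc t * s * t⁻¹ * v * (t * s * t⁻¹)⁻¹ = t * (s * (t⁻¹ * v * t) * s⁻¹) * t⁻¹ := by group
          _ = v := by rw [h4]; group
      · right
        have h4 := (h.act hsP hpp hpne hsp hy).2 h3
        calc t * s * t⁻¹ * v * (t * s * t⁻¹)⁻¹ = t * (s * (t⁻¹ * v * t) * s⁻¹) * t⁻¹ := by group
          _ = t * pr M p (μ p) * t⁻¹ * v := by rw [h4]; group) (by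
      by_contra hcon
      push Not at hcon
      have h3 : ∀ c : Pt k m, c.2 ≠ 0 → c ≠ x₀ → c ≠ μ x₀ → pp M (t * s * t⁻¹) c = c := by
        intro c hc hc1 hc2
        refine hcon c hc fun h0 => ?_
        rcases Finset.mem_insert.1 h0 with h1 | h1
        · exact hc1 h1
        · exact hc2 (Finset.mem_singleton.1 h1)
      -- the vector `{p, 0}`
      have h4 : E M (pr M (p.1, 0) p) x₀ = E M (pr M (p.1, 0) p) (μ x₀) := by
        rw [E_zz M hx, E_zz M hμx, if_neg hp1.symm, if_neg hp2.symm]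
      obtain ⟨h5, h6⟩ := h.lem2 F hx ht htn (pr_mem M (p.1, 0) p) h4
      have h7 := h.comm_of_fix F hx hgS hgn h3 h5 h6
      have h8 : s * pr M (p.1, 0) p = pr M (p.1, 0) p * s := by
        calc s * pr M (p.1, 0) p = t⁻¹ * (t * s * t⁻¹ * (t * pr M (p.1, 0) p * t⁻¹)) * t := by group
          _ = pr M (p.1, 0) p * s := by rw [h7]; group
      have h9 := (h.act_iff hsP hpp hpne hsp (pr_mem M (p.1, 0) p)).1 h8
      rw [E_zz M hp, E_zz M hμp0, if_pos rfl, if_neg hpne.symm] at h9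
      exact one_ne_zero h9)
  refine ⟨c, hc, fun h0 => hcB ?_, fun h0 => hcB ?_, hcr⟩
  · rw [h0]; exact Finset.mem_insert_self _ _
  · rw [h0]; exact Finset.mem_insert_of_mem (Finset.mem_singleton.2 rfl)

end SN

end Cfsg.Agent.Omega.IId.SymWr
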